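import Mathlib

set_option autoImplicit false

namespace Cfsg.Agent.H4

theorem amgm_nat (b c d e : ℕ) : b ^ d * c ^ e * (d + e) ^ (d + e) ≤ (b + c) ^ (d + e) * (d ^ d * e ^ e) := by
  rcases Nat.eq_zero_or_pos d with rfl | hd
  · simp only [pow_zero, one_mul, zero_add]
    exact Nat.mul_le_mul_right _ (Nat.pow_le_pow_left (Nat.le_add_left c b) _)
  rcases Nat.eq_zero_or_pos e with rfl | he
  · simp only [pow_zero, mul_one, add_zero]
    exact Nat.mul_le_mul_right _ (Nat.pow_le_pow_left (by omega) _)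
  have hN : (0 : ℝ) < (d : ℝ) + e := by positivity
  have hd' : (0 : ℝ) < d := by exact_mod_cast hd
  have he' : (0 : ℝ) < e := by exact_mod_cast he
  have key := Real.geom_mean_le_arith_mean2_weighted (w₁ := (d : ℝ) / (d + e)) (w₂ := (e : ℝ) / (d + e))
    (p₁ := (b : ℝ) / d) (p₂ := (c : ℝ) / e) (by positivity) (by positivity) (by positivity)
    (by positivity) (by field_simp)
  have h2 : (d : ℝ) / (d + e) * ((b : ℝ) / d) + (e : ℝ) / (d + e) * ((c : ℝ) / e) = ((b : ℝ) + c) / (d + e) := by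
    field_simp
  rw [h2] at key
  have key2 := pow_le_pow_left₀ (by positivity) key (d + e)
  have h3 : (((b : ℝ) / d) ^ ((d : ℝ) / (d + e)) * ((c : ℝ) / e) ^ ((e : ℝ) / (d + e))) ^ (d + e)
      = ((b : ℝ) / d) ^ d * ((c : ℝ) / e) ^ e := by
    rw [mul_pow, ← Real.rpow_natCast, ← Real.rpow_natCast, ← Real.rpow_mul (by positivity),
      ← Real.rpow_mul (by positivity)]
    have e1 : (d : ℝ) / (d + e) * ((d + e : ℕ) : ℝ) = d := by push_cast; field_simp
    have e2 : (e : ℝ) / (d + e) * ((d + e : ℕ) : ℝ) = e := by push_cast; field_simp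
    rw [e1, e2, Real.rpow_natCast, Real.rpow_natCast]
  rw [h3, div_pow, div_pow, div_pow] at key2
  have key3 : (b : ℝ) ^ d * (c : ℝ) ^ e * ((d : ℝ) + e) ^ (d + e)
      ≤ ((b : ℝ) + c) ^ (d + e) * ((d : ℝ) ^ d * (e : ℝ) ^ e) := by
    have hp1 : (0 : ℝ) < (d : ℝ) ^ d := by positivity
    have hp2 : (0 : ℝ) < (e : ℝ) ^ e := by positivity
    have hp3 : (0 : ℝ) < ((d : ℝ) + e) ^ (d + e) := by positivity
    rw [div_mul_div_comm, div_le_div_iff₀ (by positivity) hp3] at key2
    linarith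
  exact_mod_cast key3

end Cfsg.Agent.H4
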