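import Mathlib
import Cfsg.Agent.H4.Basic2
import Cfsg.Prelude.Def_SolvableStructure

set_option autoImplicit false

namespace Cfsg.Agent.H4

open Subgroup

universe u

theorem clt_of_mulEquiv {A B : Type u} [Group A] [Group B] (e : A ≃* B)
    (h : Cfsg.HasSubgroupOfEveryOrder A) : Cfsg.HasSubgroupOfEveryOrder B := by
  intro d hd
  rw [← Nat.card_congr e.toEquiv] at hd
  obtain ⟨H, hH⟩ := h d hd
  exact ⟨H.map e.toMonoidHom, by rw [card_map_of_injective e.injective, hH]⟩

/-- A `p`-subgroup lies in every normal subgroup of index prime to `p`. -/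
theorem le_normal_of_coprime_index {G : Type*} [Group G] [Finite G] {p : ℕ} [Fact p.Prime]
    {P H : Subgroup G} [H.Normal] (hP : IsPGroup p P) (hH : H.index.Coprime p) : P ≤ H := by
  rw [← relIndex_eq_one]
  have h1 : H.relIndex P ∣ H.index := relIndex_dvd_index_of_normal H P
  have h2 : H.relIndex P ∣ Nat.card P := relIndex_dvd_card H P
  obtain ⟨k, hk⟩ := IsPGroup.iff_card.mp hP
  rw [hk] at h2
  exact Nat.eq_one_of_dvd_coprimes (hH.pow_right k) h1 h2

theorem sylow_normal_of_clt_aux : ∀ (n : ℕ) (G : Type u) [Group G] [Finite G],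
    Nat.card G = n → (∀ H : Subgroup G, Cfsg.HasSubgroupOfEveryOrder H) →
    ∀ (p : ℕ) [Fact p.Prime], (∀ q : ℕ, q.Prime → q ∣ Nat.card G → q ≤ p) →
    ∀ P : Sylow p G, (P : Subgroup G).Normal := by
  intro n
  induction n using Nat.strong_induction_on with
  | _ n ih =>
    intro G _ _ hn h p _ hmax P
    rcases subsingleton_or_nontrivial G with hs | hnt
    · have : (P : Subgroup G) = ⊥ := Subsingleton.elim _ _
      rw [this]; infer_instance
    have hc1 : Nat.card G ≠ 1 := (Finite.one_lt_card).ne'
    have hq : (Nat.card G).minFac.Prime := Nat.minFac_prime hc1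
    set q := (Nat.card G).minFac with hqdef
    have hqd : q ∣ Nat.card G := Nat.minFac_dvd _
    have hG : Cfsg.HasSubgroupOfEveryOrder G := clt_of_mulEquiv Subgroup.topEquiv (h ⊤)
    obtain ⟨H, hH⟩ := hG (Nat.card G / q) (Nat.div_dvd_of_dvd hqd)
    have hidx : H.index = q := by
      have h1 := H.card_mul_index
      rw [hH] at h1
      have h2 : Nat.card G / q * q = Nat.card G := Nat.div_mul_cancel hqd
      have h3 : 0 < Nat.card G / q := Nat.div_pos (Nat.le_of_dvd Nat.card_pos hqd) hq.pos
      exact Nat.eq_of_mul_eq_mul_left h3 (h1.trans h2.symm)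
    have hHn : H.Normal := normal_of_index_eq_minFac_card hidx
    by_cases hqp : q = p
    · have hcard : Nat.card G = p ^ (Nat.card G).primeFactorsList.length := by
        apply Nat.eq_prime_pow_of_unique_prime_dvd Nat.card_pos.ne'
        intro d hd hdd
        apply le_antisymm (hmax d hd hdd)
        rw [← hqp]
        exact Nat.minFac_le_of_dvd hd.two_le hdd
      have hGp : IsPGroup p G := IsPGroup.of_card hcard
      have := P.is_maximal' (Q := ⊤) (hGp.to_subgroup ⊤) le_top
      rw [← this]; infer_instance
    · have hcop : H.index.Coprime p := by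
        rw [hidx]
        exact (Nat.coprime_primes hq Fact.out).mpr hqp
      have hPH : (P : Subgroup G) ≤ H := le_normal_of_coprime_index P.isPGroup' hcop
      have hlt : Nat.card H < Nat.card G := by
        rw [hH]; exact Nat.div_lt_self Nat.card_pos hq.one_lt
      have hIH := ih (Nat.card H) (hn ▸ hlt) H rfl
        (fun K => clt_of_mulEquiv (K.equivMapOfInjective H.subtype H.subtype_injective).symm
          (h (K.map H.subtype))) p
        (fun r hr hrd => hmax r hr (hrd.trans (card_subgroup_dvd_card H))) (P.subtype hPH)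
      have hchar := Sylow.characteristic_of_normal (P.subtype hPH) hIH
      have := ConjAct.normal_of_characteristic_of_normal (H := H) (K := ((P.subtype hPH : Sylow p H) : Subgroup H))
      rw [Sylow.coe_subtype, map_subgroupOf_eq_of_le hPH] at this
      exact this

end Cfsg.Agent.H4
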