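import Mathlib
import Cfsg.Agent.H12.Sec6
import Cfsg.Agent.H12.Control3

set_option autoImplicit false

namespace Cfsg.Agent.H4.SF

open Cfsg Cfsg.Agent.H12

universe u

variable {p : ℕ} {𝓦 : Set (∀ (Q : Type u) [Group Q], Subgroup Q)}

/-- control of strong fusion by the induced family, in the whole group -/
def SFc (p : ℕ) (𝓦 : Set (∀ (Q : Type u) [Group Q], Subgroup Q)) (H : Type u) [Group H] : Prop :=
  FamilyControlsStrongFusionIn p (indFam 𝓦 H) ⊤

lemma WC.mono {G : Type*} [Group G] {X X' : Set G} {S A : Subgroup G} {g : G} (hX : X ⊆ X')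
    (h : WC X S A g) : WC X' S A g := by
  obtain ⟨g', h1, h2⟩ := h
  exact ⟨g', h1.mono hX le_rfl, h2⟩

lemma WC.cent {G : Type*} [Group G] (X : Set G) (S A : Subgroup G) {c : G}
    (hc : c ∈ Subgroup.centralizer (A : Set G)) : WC X S A c := by
  refine ⟨1, WChain.nil A, fun a ha => ?_⟩
  have := (Subgroup.mem_centralizer_iff.mp hc) a ha
  calc (1 : G)⁻¹ * a * 1 = c⁻¹ * (c * a) := by group
    _ = c⁻¹ * a * c := by rw [← this]; group

/-- transport of control of strong fusion along an injective homomorphism -/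
theorem sf_map_injective {H₁ H : Type u} [Group H₁] [Group H] [Finite H₁]
    (h𝓦 : ∀ W ∈ 𝓦, IsCharPFunctor.{u} p W) (f : H₁ →* H) (hf : Function.Injective f)
    (h : FamilyControlsStrongFusionIn p (indFam 𝓦 H₁) ⊤) :
    FamilyControlsStrongFusionIn p (indFam 𝓦 H) f.range := by
  obtain ⟨T₁, _, hT₁, hidx, hc⟩ := h
  refine ⟨T₁.map f, ?_, hT₁.map f, ?_, ?_⟩
  · rw [MonoidHom.range_eq_map]; exact Subgroup.map_mono le_top
  · rw [MonoidHom.range_eq_map, Subgroup.relIndex_map_map_of_injective _ _ hf]; exact hidx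
  · rintro A _ ⟨h₁, rfl⟩ hA hAh
    obtain ⟨n, c, h0, hstep, hstay, hlast⟩ := hc (f ⁻¹' A) h₁ trivial (by
      intro a ha
      obtain ⟨b, hb, hba⟩ := hA ha
      rw [← hf hba]; exact hb) (by
      rintro _ ⟨a, ha, rfl⟩
      obtain ⟨b, hb, hba⟩ := hAh ⟨f a, ha, rfl⟩
      have : b = h₁ * a * h₁⁻¹ := hf (by rw [hba]; simp)
      show h₁ * a * h₁⁻¹ ∈ _
      rw [← this]; exact hb)
    have hApre : ∀ a ∈ A, ∃ a₁ ∈ f ⁻¹' A, f a₁ = a := by
      intro a ha
      obtain ⟨b, _, hba⟩ := hA ha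
      exact ⟨b, by rw [Set.mem_preimage, hba]; exact ha, hba⟩
    refine ⟨n, fun i => f (c i), by show f (c 0) = 1; rw [h0, map_one], ?_, ?_, ?_⟩
    · intro i
      obtain ⟨_, ⟨W, hW, rfl⟩, hs⟩ := hstep i
      refine ⟨_, ⟨W, hW, rfl⟩, ?_⟩
      have h1 : c i.succ * (c i.castSucc)⁻¹ ∈
          Subgroup.normalizer ((inducedFunctor W T₁ : Subgroup H₁) : Set H₁) := hs.2
      have h2 := Subgroup.mem_map_of_mem f h1
      rw [map_normalizer_of_injective f hf, inducedFunctor_map (h𝓦 W hW) f T₁ hT₁ hf.injOn] at h2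
      simpa using h2
    · rintro i _ ⟨a, ha, rfl⟩
      obtain ⟨a₁, ha₁, rfl⟩ := hApre a ha
      have := hstay i ⟨a₁, ha₁, rfl⟩
      exact ⟨_, this, by simp⟩
    · intro a ha
      obtain ⟨a₁, ha₁, rfl⟩ := hApre a ha
      have := congrArg f (hlast a₁ ha₁)
      simpa using this

theorem sf_of_iso {H₁ H : Type u} [Group H₁] [Group H] [Finite H₁]
    (h𝓦 : ∀ W ∈ 𝓦, IsCharPFunctor.{u} p W) (e : H₁ ≃* H) (h : SFc p 𝓦 H₁) : SFc p 𝓦 H := by
  have := sf_map_injective h𝓦 e.toMonoidHom e.injective h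
  rwa [MonoidHom.range_eq_top.mpr e.surjective] at this

theorem sf_subgroup {H : Type u} [Group H] [Finite H]
    (h𝓦 : ∀ W ∈ 𝓦, IsCharPFunctor.{u} p W) (K : Subgroup H) (h : SFc p 𝓦 K) :
    FamilyControlsStrongFusionIn p (indFam 𝓦 H) K := by
  have := sf_map_injective h𝓦 K.subtype K.subtype_injective h
  rwa [Subgroup.range_subtype] at this

/-- the induction hypothesis: control of strong fusion in all smaller sections -/
def SFIH (p : ℕ) (𝓦 : Set (∀ (Q : Type u) [Group Q], Subgroup Q)) (H : Type u) [Group H] : Prop :=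
  ∀ (H' : Type u) [Group H'], IsSec H H' → Nat.card H' < Nat.card H → SFc p 𝓦 H'

section
variable [Fact p.Prime] {H : Type u} [Group H] [Finite H]

/-- the predicate "conjugation by `g` on `A` is a chain through the normalizers `N(W S)`" -/
abbrev Phi (𝓦 : Set (∀ (Q : Type u) [Group Q], Subgroup Q)) (S : Subgroup H) : Subgroup H → H → Prop :=
  WC (famSet (indFam 𝓦 H) ⊤ S) S

lemma Phi.fusionClosed (S : Subgroup H) : FusionClosed S (Phi 𝓦 S) :=
  WC.fusionClosed S (fun x hx => famSet_inv x hx)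

lemma famSet_mono {G : Type*} [Group G] (𝓥 : Set (Subgroup G → Subgroup G)) {K K' : Subgroup G} (h : K ≤ K')
    (T : Subgroup G) : famSet 𝓥 K T ⊆ famSet 𝓥 K' T := by
  rintro x ⟨W, hW, hx⟩
  exact ⟨W, hW, h hx.1, hx.2⟩

lemma SFIH.subgroup (ih : SFIH p 𝓦 H) (h𝓦 : ∀ W ∈ 𝓦, IsCharPFunctor.{u} p W) {K : Subgroup H} (hK : K ≠ ⊤) :
    FamilyControlsStrongFusionIn p (indFam 𝓦 H) K :=
  sf_subgroup h𝓦 K (ih K ((IsSec.refl H).subgroup K) (card_subgroup_lt hK))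

/-- the induction hypothesis, on a proper subgroup containing the Sylow subgroup -/
lemma SFIH.phi (ih : SFIH p 𝓦 H) (h𝓦 : ∀ W ∈ 𝓦, IsCharPFunctor.{u} p W) (S : Sylow p H) {K : Subgroup H}
    (hK : K ≠ ⊤) (hSK : (S : Subgroup H) ≤ K) {A : Subgroup H} {g : H} (hA : A ≤ S) (hg : g ∈ K)
    (hAg : cj A g ≤ S) : Phi 𝓦 (S : Subgroup H) A g :=
  WC.mono (famSet_mono _ le_top _)
    (family_at (indFam_conj h𝓦) (ih.subgroup h𝓦 hK) hSK S.2 (sylow_not_dvd_relIndex' S hSK) A g hA hg hAg)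

lemma sfc_of_phi (S : Sylow p H)
    (h : ∀ (A : Subgroup H) (g : H), A ≤ S → cj A g ≤ S → Phi 𝓦 (S : Subgroup H) A g) : SFc p 𝓦 H :=
  family_of le_top S.2 (sylow_not_dvd_relIndex_top S) (fun A g hA _ hAg => h A g hA hAg)

lemma phi_of_sfc (h𝓦 : ∀ W ∈ 𝓦, IsCharPFunctor.{u} p W) (h : SFc p 𝓦 H) (S : Sylow p H) {A : Subgroup H} {g : H}
    (hA : A ≤ S) (hAg : cj A g ≤ S) : Phi 𝓦 (S : Subgroup H) A g :=
  family_at (indFam_conj h𝓦) h le_top S.2 (sylow_not_dvd_relIndex_top S) A g hA trivial hAg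

/-- Case `O_p(H) = 1`. -/
lemma SFIH.of_pCore_eq_bot (ih : SFIH p 𝓦 H) (h𝓦 : ∀ W ∈ 𝓦, IsCharPFunctor.{u} p W) (S : Sylow p H)
    (hQ : pCore p H = ⊥) : SFc p 𝓦 H :=
  family_strong_fusion_global S (indFam 𝓦 H) (indFam_conj h𝓦) _
    (goodFamily_fullyNormalized S (indFam_conj h𝓦)) (fun U hU => ih.subgroup h𝓦
      (normalizer_ne_top_of_pCore (S.2.to_le hU.1) (by rw [hQ, le_bot_iff]; exact hU.2.1)))

end

end Cfsg.Agent.H4.SF
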