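import Mathlib
import Cfsg.Agent.H4.SF1

set_option autoImplicit false

namespace Cfsg.Agent.H4.SF

open Cfsg Cfsg.Agent.H12

universe u

variable {p : ℕ} [Fact p.Prime] {𝓦 : Set (∀ (Q : Type u) [Group Q], Subgroup Q)}

lemma map_cj' {H H' : Type*} [Group H] [Group H'] (f : H →* H') (T : Subgroup H) (g : H) :
    (cj T g).map f = cj (T.map f) (f g) := by
  unfold cj
  rw [Subgroup.map_map, Subgroup.map_map]
  congr 1
  ext z
  simp

/-- Sylow + Dedekind -/
lemma exists_cj_le_sylow {H : Type*} [Group H] [Finite H] (S : Sylow p H) (E : Subgroup H) [E.Normal]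
    {M P₁ : Subgroup H} (hSM : (S : Subgroup H) ≤ M) (hP₁ : IsPGroup p P₁) (h1 : P₁ ≤ (S : Subgroup H) ⊔ E)
    (h2 : P₁ ≤ M) : ∃ k ∈ E ⊓ M, cj P₁ k ≤ S := by
  have hSL : (S : Subgroup H) ≤ ((S : Subgroup H) ⊔ E) ⊓ M := le_inf le_sup_left hSM
  obtain ⟨h, hh, hle⟩ := exists_conj_le_of_relIndex hSL S.2 (sylow_not_dvd_relIndex' S hSL) (le_inf h1 h2) hP₁
  obtain ⟨s, hs, e, he, rfl⟩ := Subgroup.mem_sup_of_normal_right.mp hh.1
  have heM : e ∈ M := by
    have := mul_mem (inv_mem (hSM hs)) hh.2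
    simpa using this
  refine ⟨e⁻¹, Subgroup.mem_inf.mpr ⟨inv_mem he, inv_mem heM⟩, ?_⟩
  · have h3 : cj (cj P₁ e⁻¹) s⁻¹ ≤ S := by
      rw [cj_mul]
      unfold cj
      simpa using hle
    rw [cj_le_iff, inv_inv, cj_self_of_mem hs] at h3
    exact h3

/-- splitting the fusion along a Frattini factorization -/
lemma split_fusion {H : Type*} [Group H] [Finite H] (S : Sylow p H) (C₀ : Subgroup H → H → Prop)
    (hC : FusionClosed (S : Subgroup H) C₀) (E : Subgroup H) [E.Normal] {M : Subgroup H}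
    (hSM : (S : Subgroup H) ≤ M) (hfr : ∀ g : H, ∃ c ∈ E, ∃ n ∈ M, g = c * n)
    (h1 : ∀ (A : Subgroup H) (g : H), A ≤ S → g ∈ (S : Subgroup H) ⊔ E → cj A g ≤ S → C₀ A g)
    (h2 : ∀ (A : Subgroup H) (g : H), A ≤ S → g ∈ M → cj A g ≤ S → C₀ A g) :
    ∀ (A : Subgroup H) (g : H), A ≤ S → cj A g ≤ S → C₀ A g := by
  intro A g hA hAg
  obtain ⟨c, hc, n, hn, rfl⟩ := hfr g
  have hcE : c ∈ (S : Subgroup H) ⊔ E := (le_sup_right : E ≤ _) hc
  have hP1 : cj A c ≤ (S : Subgroup H) ⊔ E := by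
    have := cj_mono (hA.trans (le_sup_left : (S : Subgroup H) ≤ (S : Subgroup H) ⊔ E)) c
    rwa [cj_self_of_mem hcE] at this
  have hP2 : cj A c ≤ M := by
    rw [← cj_mul, cj_le_iff] at hAg
    refine hAg.trans ?_
    have := cj_mono hSM n⁻¹
    rwa [cj_self_of_mem (inv_mem hn)] at this
  obtain ⟨k, hk, hle⟩ := exists_cj_le_sylow S E hSM (isPGroup_cj (S.2.to_le hA) c) hP1 hP2
  rw [cj_mul] at hle
  have e : c * n = (c * k) * (k⁻¹ * n) := by group
  rw [e] at hAg ⊢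
  refine hC.comp hA hle hAg (h1 A (c * k) hA ((le_sup_right : E ≤ _) (mul_mem hc hk.1)) hle) ?_
  refine h2 _ _ hle (mul_mem (inv_mem hk.2) hn) ?_
  rw [cj_mul]; exact hAg

section coprime

variable {H H' : Type u} [Group H] [Group H'] [Finite H]

lemma lift_chain_coprime (h𝓦 : ∀ W ∈ 𝓦, IsCharPFunctor.{u} p W) (π : H →* H') (hπ : Function.Surjective π)
    (hD : (Nat.card π.ker).Coprime p) (S : Sylow p H) {B' : Subgroup H'} {g' : H'}
    (h : WChain (famSet (indFam 𝓦 H') ⊤ ((S : Subgroup H).map π)) ((S : Subgroup H).map π) B' g') :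
    ∀ B : Subgroup H, B ≤ S → B.map π = B' →
      ∃ g, π g = g' ∧ WChain (famSet (indFam 𝓦 H) ⊤ (S : Subgroup H)) (S : Subgroup H) B g := by
  induction h with
  | nil T => intro B _ _; exact ⟨1, map_one π, WChain.nil B⟩
  | @cons T x g hx hT _ ih =>
    intro B hB hBT
    obtain ⟨_, ⟨W, hW, rfl⟩, hx⟩ := hx
    have hx2 : x ∈ Subgroup.normalizer ((inducedFunctor W ((S : Subgroup H).map π) : Subgroup H') : Set H') := hx.2
    have hXp : IsPGroup p (inducedFunctor W (S : Subgroup H) : Subgroup H) := S.2.to_le (inducedFunctor_le _)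
    rw [← inducedFunctor_map (h𝓦 W hW) π S S.2 (injOn_of_coprime_ker hD S.2),
      normalizer_map_of_coprime_ker hπ hD hXp] at hx2
    obtain ⟨x₀, hx₀, rfl⟩ := hx2
    set N := Subgroup.normalizer ((inducedFunctor W (S : Subgroup H) : Subgroup H) : Set H) with hN
    have hSN : (S : Subgroup H) ≤ N := sylow_le_normalizer_induced h𝓦 hW S.2
    have hP1 : cj B x₀ ≤ (S : Subgroup H) ⊔ π.ker := by
      rw [← Subgroup.comap_map_eq, ← Subgroup.map_le_iff_le_comap, map_cj', hBT]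
      exact hT
    have hP2 : cj B x₀ ≤ N := by
      have := cj_mono (hB.trans hSN) x₀
      rwa [cj_self_of_mem hx₀] at this
    obtain ⟨k, hk, hle⟩ := exists_cj_le_sylow S π.ker hSN (isPGroup_cj (S.2.to_le hB) x₀) hP1 hP2
    rw [cj_mul] at hle
    have hπk : π (x₀ * k) = π x₀ := by
      rw [map_mul, MonoidHom.mem_ker.mp hk.1, mul_one]
    obtain ⟨g₂, hg₂, hch⟩ := ih (cj B (x₀ * k)) hle (by rw [map_cj', hBT, hπk])
    refine ⟨x₀ * k * g₂, by rw [map_mul, hπk, hg₂], ?_⟩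
    exact WChain.cons ⟨_, ⟨W, hW, rfl⟩, trivial, mul_mem hx₀ hk.2⟩ hle hch

/-- control of strong fusion lifts from the quotient by a normal `p'`-subgroup -/
theorem sf_of_quotient_coprime (h𝓦 : ∀ W ∈ 𝓦, IsCharPFunctor.{u} p W) (π : H →* H')
    (hπ : Function.Surjective π) (hD : (Nat.card π.ker).Coprime p) (h : SFc p 𝓦 H') : SFc p 𝓦 H := by
  have : Finite H' := Finite.of_surjective π hπ
  let S : Sylow p H := default
  refine sfc_of_phi S ?_
  intro A g hA hAg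
  have h1 : Phi 𝓦 ((S.mapSurjective hπ : Sylow p H') : Subgroup H') (A.map π) (π g) :=
    phi_of_sfc h𝓦 h (S.mapSurjective hπ) (by rw [Sylow.coe_mapSurjective]; exact Subgroup.map_mono hA)
      (by rw [Sylow.coe_mapSurjective, ← map_cj']; exact Subgroup.map_mono hAg)
  obtain ⟨g', hg1, hg2⟩ := h1
  rw [Sylow.coe_mapSurjective] at hg1
  obtain ⟨g₁, rfl, hch⟩ := lift_chain_coprime h𝓦 π hπ hD S hg1 A hA rfl
  refine ⟨g₁, hch, ?_⟩
  intro a ha
  apply injOn_of_coprime_ker hD S.2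
  · exact hch.cj_le hA (conj_mem_cj ha)
  · exact hAg (conj_mem_cj ha)
  · have := hg2 (π a) (Subgroup.mem_map_of_mem π ha)
    simpa using this

end coprime

end Cfsg.Agent.H4.SF
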