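import Mathlib
import Cfsg.Agent.H4.SF2

set_option autoImplicit false

namespace Cfsg.Agent.H4.SF

open Cfsg Cfsg.Agent.H12

universe u

variable {p : ℕ} [Fact p.Prime] {𝓦 : Set (∀ (Q : Type u) [Group Q], Subgroup Q)}
variable {H : Type u} [Group H] [Finite H]

lemma comap_map_sylow (S : Sylow p H) :
    ((S : Subgroup H).map (QuotientGroup.mk' (pCore p H))).comap (QuotientGroup.mk' (pCore p H)) = S := by
  rw [Subgroup.comap_map_eq, QuotientGroup.ker_mk', sup_eq_left]
  exact pCore_le_sylow S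

lemma sylow_ne_top (S : Sylow p H) (hSQ : ¬ ((S : Subgroup H) ≤ pCore p H)) : (S : Subgroup H) ≠ ⊤ := by
  intro h
  apply hSQ
  have : (S : Subgroup H).Normal := by rw [h]; infer_instance
  exact le_pCore this S.2

/-- the preimages of the normalizers in `H / O_p(H)` are proper subgroups containing `S` -/
lemma comap_normalizer_ne_top (h𝓦 : ∀ W ∈ 𝓦, IsCharPFunctor.{u} p W) (S : Sylow p H)
    (hSQ : ¬ ((S : Subgroup H) ≤ pCore p H)) {W} (hW : W ∈ 𝓦) :
    (Subgroup.normalizer ((inducedFunctor W ((S : Subgroup H).map (QuotientGroup.mk' (pCore p H))) :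
      Subgroup (H ⧸ pCore p H)) : Set (H ⧸ pCore p H))).comap (QuotientGroup.mk' (pCore p H)) ≠ ⊤ := by
  set π := QuotientGroup.mk' (pCore p H) with hπdef
  have hπ : Function.Surjective π := QuotientGroup.mk'_surjective _
  set S' := (S : Subgroup H).map π with hS'
  have hS'p : IsPGroup p S' := S.2.map π
  intro htop
  have hn : (inducedFunctor W S' : Subgroup (H ⧸ pCore p H)).Normal := by
    rw [← Subgroup.normalizer_eq_top_iff, eq_top_iff]
    intro y _
    obtain ⟨x, rfl⟩ := hπ y
    have : x ∈ (Subgroup.normalizer ((inducedFunctor W S' : Subgroup (H ⧸ pCore p H)) :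
      Set (H ⧸ pCore p H))).comap π := by rw [htop]; trivial
    exact this
  have hV : (inducedFunctor W S').comap π ≤ pCore p H := by
    refine le_pCore (hn.comap π) (S.2.to_le ?_)
    rw [← comap_map_sylow S]
    exact Subgroup.comap_mono (inducedFunctor_le S')
  have hbot : inducedFunctor W S' = ⊥ := by
    rw [← Subgroup.map_comap_eq_self_of_surjective hπ (inducedFunctor W S'), eq_bot_iff]
    refine (Subgroup.map_mono hV).trans ?_
    rw [le_bot_iff, Subgroup.map_eq_bot_iff, hπdef, QuotientGroup.ker_mk']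
  refine inducedFunctor_ne_bot (h𝓦 W hW) S' hS'p ?_ hbot
  intro h
  apply hSQ
  rw [hS', (Subgroup.map_eq_bot_iff _), hπdef, QuotientGroup.ker_mk'] at h
  exact h

lemma lift_chain_pCore (ih : SFIH p 𝓦 H) (h𝓦 : ∀ W ∈ 𝓦, IsCharPFunctor.{u} p W) (S : Sylow p H)
    (hSQ : ¬ ((S : Subgroup H) ≤ pCore p H)) {B' : Subgroup (H ⧸ pCore p H)} {g' : H ⧸ pCore p H}
    (h : WChain (famSet (indFam 𝓦 (H ⧸ pCore p H)) ⊤ ((S : Subgroup H).map (QuotientGroup.mk' (pCore p H))))
      ((S : Subgroup H).map (QuotientGroup.mk' (pCore p H))) B' g') :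
    ∀ B : Subgroup H, B ≤ S → B.map (QuotientGroup.mk' (pCore p H)) = B' →
      ∃ g, QuotientGroup.mk' (pCore p H) g = g' ∧ Phi 𝓦 (S : Subgroup H) B g ∧ cj B g ≤ S := by
  induction h with
  | nil T =>
    intro B hB _
    exact ⟨1, map_one _, ⟨1, WChain.nil B, fun _ _ => rfl⟩, by rw [cj_one]; exact hB⟩
  | @cons T x g hx hT _ ih2 =>
    intro B hB hBT
    obtain ⟨_, ⟨W, hW, rfl⟩, hx⟩ := hx
    obtain ⟨x₀, rfl⟩ := QuotientGroup.mk'_surjective _ x
    have hle : cj B x₀ ≤ S := by
      rw [← comap_map_sylow S, ← Subgroup.map_le_iff_le_comap, map_cj', hBT]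
      exact hT
    have hSN : (S : Subgroup H) ≤ (Subgroup.normalizer ((inducedFunctor W ((S : Subgroup H).map
        (QuotientGroup.mk' (pCore p H))) : Subgroup (H ⧸ pCore p H)) : Set (H ⧸ pCore p H))).comap
        (QuotientGroup.mk' (pCore p H)) := by
      rw [← Subgroup.map_le_iff_le_comap]
      exact sylow_le_normalizer_induced h𝓦 hW (S.2.map _)
    have h1 : Phi 𝓦 (S : Subgroup H) B x₀ :=
      ih.phi h𝓦 S (comap_normalizer_ne_top h𝓦 S hSQ hW) hSN hB hx.2 hle
    obtain ⟨g₂, hg₂, h2, h3⟩ := ih2 (cj B x₀) hle (by rw [map_cj', hBT])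
    rw [cj_mul] at h3
    exact ⟨x₀ * g₂, by rw [map_mul, hg₂], (Phi.fusionClosed (S : Subgroup H)).comp hB hle h3 h1 h2, h3⟩

/-- Case `H = S C_H(O_p(H))`. -/
theorem SFIH.of_sup_centralizer (ih : SFIH p 𝓦 H) (h𝓦 : ∀ W ∈ 𝓦, IsCharPFunctor.{u} p W) (S : Sylow p H)
    (hQ : pCore p H ≠ ⊥) (htop : (S : Subgroup H) ⊔ Subgroup.centralizer (pCore p H : Set H) = ⊤)
    (hSQ : ¬ ((S : Subgroup H) ≤ pCore p H)) : SFc p 𝓦 H := by
  set Q := pCore p H with hQdef
  set π := QuotientGroup.mk' Q with hπdef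
  have hπ : Function.Surjective π := QuotientGroup.mk'_surjective _
  have hker : π.ker = Q := QuotientGroup.ker_mk' _
  have h' : SFc p 𝓦 (H ⧸ Q) := ih _ ((IsSec.refl H).quotient Q) (card_quotient_lt hQ)
  have hC := Phi.fusionClosed (𝓦 := 𝓦) (S : Subgroup H)
  have hQS : Q ≤ S := pCore_le_sylow S
  refine sfc_of_phi S (fun A g hA hAg => ?_)
  refine alperin_goldschmidt_abstract S (Phi 𝓦 (S : Subgroup H)) hC
    (fun T c _ hc => WC.cent _ _ T hc) ?_ ?_ A hA g hAg
  · intro g hg
    exact ih.phi h𝓦 S (normalizer_ne_top_of_pCore S.2 hSQ) Subgroup.le_normalizer le_rfl hg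
      (by rw [cj_eq_self hg])
  · intro U hU _ hfn _ IH m hm
    by_cases hQU : Q ≤ U
    · -- the main case
      have h1 : Phi 𝓦 ((S.mapSurjective hπ : Sylow p (H ⧸ Q)) : Subgroup (H ⧸ Q)) (U.map π) (π m) :=
        phi_of_sfc h𝓦 h' (S.mapSurjective hπ) (by rw [Sylow.coe_mapSurjective]; exact Subgroup.map_mono hU)
          (by rw [Sylow.coe_mapSurjective, ← map_cj', cj_eq_self hm]; exact Subgroup.map_mono hU)
      obtain ⟨g', hg1, hg2⟩ := h1
      rw [Sylow.coe_mapSurjective] at hg1
      obtain ⟨g, rfl, hg3, hg4⟩ := lift_chain_pCore ih h𝓦 S hSQ hg1 U hU rfl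
      have hgU : cj U g = U := by
        have e1 : (cj U g).map π = U.map π := by
          rw [map_cj', cj_eq_of_agree hg2, ← map_cj', cj_eq_self hm]
        have e2 : Q ≤ cj U g := by
          have := cj_mono hQU g
          rwa [cj_of_normal] at this
        rw [← Subgroup.comap_map_eq_self (f := π) (H := cj U g) (by rw [hker]; exact e2), e1,
          Subgroup.comap_map_eq_self (by rw [hker]; exact hQU)]
      have hgN : g ∈ Subgroup.normalizer (U : Set H) := cj_eq_self_iff.mp hgU
      have h1U : Phi 𝓦 (S : Subgroup H) U 1 := ⟨1, WChain.nil U, fun _ _ => rfl⟩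
      have hmem : ∀ x, x ∈ Subgroup.normalizer (U : Set H) → Phi 𝓦 (S : Subgroup H) U x →
          x ∈ chainSubgroup hC U hU h1U := fun x h1 h2 => ⟨h1, h2⟩
      set Y := actTriv U Q with hY
      have hNQ : ∀ x : H, x ∈ Subgroup.normalizer (Q : Set H) := by
        intro x
        rw [Subgroup.normalizer_eq_top]; trivial
      have hcY : m * g⁻¹ ∈ Y := by
        refine ⟨mul_mem hm (inv_mem hgN), hNQ _, fun a ha => ?_⟩
        rw [← hker, MonoidHom.mem_ker]
        have : (π g)⁻¹ * π a * π g = (π m)⁻¹ * π a * π m := hg2 (π a) (Subgroup.mem_map_of_mem π ha)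
        have e : π (a⁻¹ * ((m * g⁻¹)⁻¹ * a * (m * g⁻¹))) =
            (π a)⁻¹ * (π g * ((π m)⁻¹ * π a * π m) * (π g)⁻¹) := by
          simp only [map_mul, map_inv, mul_inv_rev, inv_inv]; group
        rw [e, ← this]; group
      have hYX : Y ≤ Subgroup.normalizer (U : Set H) := fun y hy => hy.1
      have hn : ∀ x ∈ Subgroup.normalizer (U : Set H), cj Y x = Y := by
        intro x hx
        apply cj_eq_of_le
        intro y hy
        have := conj_mem_actTriv (mem_cj.mp hy) hx (hNQ x)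
        simpa [mul_assoc] using this
      have hRidx : ¬ p ∣ ((S : Subgroup H) ⊓ Y).relIndex Y := by
        have := sylow_rel_inf_normal (S := (S : Subgroup H) ⊓ Subgroup.normalizer (U : Set H)) inf_le_right
          (S.2.to_le inf_le_left) hfn hYX hn
        rwa [inf_assoc, inf_eq_right.mpr hYX] at this
      have hK : ∀ y ∈ Y, (orderOf y).Coprime p → y ∈ Subgroup.centralizer (U : Set H) := by
        intro y hy hco
        have hyC : y ∈ Subgroup.centralizer (Q : Set H) :=
          mem_of_coprime_orderOf (isPGroup_quotient_of_sup_eq_top S.2 htop) hco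
        exact centralizes_of_actTriv (pCore_isPGroup p H) hy hyC hco
      obtain ⟨o, ho, r, hr, e⟩ := exists_mul_of_sylow_rel inf_le_right (S.2.to_le inf_le_left) hRidx hK hcY
      have ho' := hmem o (hYX ho.2) (WC.cent _ _ U ho.1)
      have hr' := hmem r (hYX hr.2) (ih.phi h𝓦 S (sylow_ne_top S hSQ) le_rfl hU hr.1
        (by rw [cj_eq_self (hYX hr.2)]; exact hU))
      have hg' := hmem g hgN hg3
      have := mul_mem (mul_mem ho' hr') hg'
      rw [← e, inv_mul_cancel_right] at this
      exact this.2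
    · set D := U ⊔ Q with hD
      have hDS : D ≤ S := sup_le hU hQS
      have hcard : Nat.card U < Nat.card D := by
        apply card_lt_of_lt
        refine lt_of_le_of_ne le_sup_left ?_
        intro h
        apply hQU
        rw [h]; exact le_sup_right
      have e : cj D m = D := by rw [hD, cj_sup, cj_eq_self hm, cj_of_normal]
      exact hC.res le_sup_left hDS (e.symm ▸ hDS) (IH D hDS hcard m (e.symm ▸ hDS))

end Cfsg.Agent.H4.SF
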