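import Mathlib
import Cfsg.Agent.H4.SF3

set_option autoImplicit false

namespace Cfsg.Agent.H4.SF

open Cfsg Cfsg.Agent.H12

universe u

variable {p : ℕ} [Fact p.Prime] {𝓦 : Set (∀ (Q : Type u) [Group Q], Subgroup Q)}

/-- the inductive step -/
theorem SFIH.step {H : Type u} [Group H] [Finite H] (ih : SFIH p 𝓦 H) (h𝓦 : ∀ W ∈ 𝓦, IsCharPFunctor.{u} p W)
    (hcon : Subgroup.centralizer (pCore p H : Set H) ≤ pCore p H → SFc p 𝓦 H) : SFc p 𝓦 H := by
  let S : Sylow p H := default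
  by_cases hD : pPrimeCore p H = ⊥
  swap
  · have : (pPrimeCore p H).Normal := by
      have := pPrimeCore_characteristic p H
      exact Subgroup.normal_of_characteristic _
    refine sf_of_quotient_coprime h𝓦 (QuotientGroup.mk' (pPrimeCore p H)) (QuotientGroup.mk'_surjective _) ?_
      (ih _ ((IsSec.refl H).quotient _) (card_quotient_lt hD))
    rw [QuotientGroup.ker_mk']; exact pPrimeCore_coprime p
  by_cases hQ : pCore p H = ⊥
  · exact ih.of_pCore_eq_bot h𝓦 S hQ
  by_cases hSC : (S : Subgroup H) ⊓ Subgroup.centralizer (pCore p H : Set H) ≤ pCore p H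
  · exact hcon (centralizer_pCore_le_of S hD hSC)
  have hSQ : ¬ ((S : Subgroup H) ≤ pCore p H) := fun h => hSC (inf_le_left.trans h)
  by_cases htop : (S : Subgroup H) ⊔ Subgroup.centralizer (pCore p H : Set H) = ⊤
  · exact ih.of_sup_centralizer h𝓦 S hQ htop hSQ
  set Q := pCore p H with hQdef
  set C := Subgroup.centralizer (Q : Set H) with hCdef
  set M := Subgroup.normalizer ((Q ⊔ ((S : Subgroup H) ⊓ C) : Subgroup H) : Set H) with hM
  have hQS : Q ≤ S := pCore_le_sylow S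
  have hMtop : M ≠ ⊤ := by
    refine normalizer_ne_top_of_pCore (S.2.to_le (sup_le hQS inf_le_left)) ?_
    intro h
    exact hSC (le_sup_right.trans h)
  have hSM : (S : Subgroup H) ≤ M := by
    intro s hs
    rw [hM, ← cj_eq_self_iff, cj_sup, cj_of_normal, cj_inf, cj_self_of_mem hs, cj_of_normal]
  refine sfc_of_phi S ?_
  exact split_fusion S (Phi 𝓦 (S : Subgroup H)) (Phi.fusionClosed _) C hSM
    (fun g => exists_mul_normalizer_sup S C Q g)
    (fun A g hA hg hAg => ih.phi h𝓦 S htop le_sup_left hA hg hAg)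
    (fun A g hA hg hAg => ih.phi h𝓦 S hMtop hSM hA hg hAg)

/-- induction over the sections of `G` -/
theorem sf_all_sections {G : Type u} [Group G] [Finite G] (h𝓦 : ∀ W ∈ 𝓦, IsCharPFunctor.{u} p W)
    (hloc : ∀ (K R : Subgroup G) [hR : (R.subgroupOf K).Normal],
      Subgroup.centralizer ((pCore p (↥K ⧸ R.subgroupOf K) : Subgroup (↥K ⧸ R.subgroupOf K)) :
        Set (↥K ⧸ R.subgroupOf K)) ≤ pCore p (↥K ⧸ R.subgroupOf K) → SFc p 𝓦 (↥K ⧸ R.subgroupOf K)) :
    ∀ (K R : Subgroup G) [hR : (R.subgroupOf K).Normal], SFc p 𝓦 (↥K ⧸ R.subgroupOf K) := by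
  suffices H : ∀ (n : ℕ) (K R : Subgroup G) (hR : (R.subgroupOf K).Normal), Nat.card (↥K ⧸ R.subgroupOf K) = n →
      SFc p 𝓦 (↥K ⧸ R.subgroupOf K) from fun K R hR => H _ K R hR rfl
  intro n
  induction n using Nat.strong_induction_on with
  | _ n ih =>
    intro K R hR hn
    refine SFIH.step ?_ h𝓦 (hloc K R)
    intro H' _ hsec hcard
    obtain ⟨K', R', hR', ⟨e⟩⟩ := ((IsSec.official K R).trans hsec).exists_official
    have h1 := ih (Nat.card (↥K' ⧸ R'.subgroupOf K')) (by rw [Nat.card_congr e.toEquiv, ← hn]; exact hcard) K' R' hR' rfl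
    exact sf_of_iso h𝓦 e h1

theorem sf_of_isSec {G : Type u} [Group G] [Finite G] (h𝓦 : ∀ W ∈ 𝓦, IsCharPFunctor.{u} p W)
    (hloc : ∀ (K R : Subgroup G) [hR : (R.subgroupOf K).Normal],
      Subgroup.centralizer ((pCore p (↥K ⧸ R.subgroupOf K) : Subgroup (↥K ⧸ R.subgroupOf K)) :
        Set (↥K ⧸ R.subgroupOf K)) ≤ pCore p (↥K ⧸ R.subgroupOf K) → SFc p 𝓦 (↥K ⧸ R.subgroupOf K))
    (H' : Type u) [Group H'] (hsec : IsSec G H') : SFc p 𝓦 H' := by
  obtain ⟨K', R', hR', ⟨e⟩⟩ := hsec.exists_official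
  exact sf_of_iso h𝓦 e (sf_all_sections h𝓦 hloc K' R')

/-- a single functor: from the family form to `ControlsStrongFusion` at a given Sylow subgroup -/
theorem controlsStrongFusion_of_sfc {H : Type u} [Group H] [Finite H] {W : ∀ (Q : Type u) [Group Q], Subgroup Q}
    (hW : IsCharPFunctor.{u} p W) (h : SFc p {W} H) (T : Sylow p H) :
    ControlsStrongFusion p (inducedFunctor (G := H) W (T : Subgroup H)) := by
  have h𝓦 : ∀ W' ∈ ({W} : Set (∀ (Q : Type u) [Group Q], Subgroup Q)), IsCharPFunctor.{u} p W' := by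
    intro W' hW'
    rw [Set.mem_singleton_iff] at hW'
    rw [hW']; exact hW
  refine ⟨T, inducedFunctor_le _, fun A hA => ⟨hA, fun g hg => ?_⟩⟩
  have hB : Subgroup.closure A ≤ T := (Subgroup.closure_le _).mpr hA
  obtain ⟨g', hg1, hg2⟩ := phi_of_sfc h𝓦 h T (A := Subgroup.closure A) (g := g⁻¹) hB
    (closure_conj_le (by simpa using hg))
  have hsub : famSet (indFam {W} H) ⊤ (T : Subgroup H) ⊆
      ((Subgroup.normalizer ((inducedFunctor (G := H) W (T : Subgroup H) : Subgroup H) : Set H) : Subgroup H) :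
        Set H) := by
    rintro x ⟨_, ⟨W', hW', rfl⟩, hx⟩
    rw [Set.mem_singleton_iff] at hW'
    subst hW'
    exact hx.2
  have hmem := (hg1.mono hsub le_rfl).mem_of_subgroup
  refine ⟨g'⁻¹, inv_mem hmem, fun a ha => ?_⟩
  have := hg2 a (Subgroup.subset_closure ha)
  simpa using this.symm

/-- a single functor with normal value: control of strong fusion is trivial -/
theorem sfc_of_normal {H : Type u} [Group H] [Finite H] {W : ∀ (Q : Type u) [Group Q], Subgroup Q}
    (T : Sylow p H) (hn : (inducedFunctor (G := H) W (T : Subgroup H)).Normal) : SFc p {W} H := by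
  refine sfc_of_phi T (fun A g _ hAg => ⟨g, WChain.single ⟨_, ⟨W, rfl, rfl⟩, trivial, ?_⟩ hAg, fun _ _ => rfl⟩)
  rw [Subgroup.normalizer_eq_top_iff.mpr hn]; trivial

end Cfsg.Agent.H4.SF
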