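import Mathlib
import Cfsg.Agent.H4.SF4
import Cfsg.Agent.H12.Dk25
import Cfsg.Agent.S0664
import Cfsg.Agent.H12.KInf

set_option autoImplicit false

namespace Cfsg.Agent.H4.QdC

open Cfsg Cfsg.Agent.H12 Cfsg.Agent.H4.SF

universe u

variable {p : ℕ} [Fact p.Prime]

/-- the functor `Z(J(·))` (abelian version) -/
def zjF : ∀ (Q : Type u) [Group Q], Subgroup Q :=
  fun Q _ => thompsonSubgroupA Q ⊓ Subgroup.centralizer (thompsonSubgroupA Q : Set Q)

lemma maxAbelian_map {Q R : Type*} [Group Q] [Group R] (φ : Q ≃* R) {A : Subgroup Q}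
    (hA : A ∈ maxAbelianSubgroups Q) : A.map φ.toMonoidHom ∈ maxAbelianSubgroups R := by
  obtain ⟨h1, h2⟩ := hA
  refine ⟨?_, fun B hB => ?_⟩
  · exact Subgroup.map_isMulCommutative A φ.toMonoidHom
  · have hB' : IsMulCommutative (B.map φ.symm.toMonoidHom) := Subgroup.map_isMulCommutative B φ.symm.toMonoidHom
    have := h2 _ hB'
    rw [Subgroup.card_map_of_injective φ.symm.injective] at this
    rw [Subgroup.card_map_of_injective φ.injective]
    exact this

lemma thompsonA_map_le {Q R : Type*} [Group Q] [Group R] (φ : Q ≃* R) :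
    (thompsonSubgroupA Q).map φ.toMonoidHom ≤ thompsonSubgroupA R := by
  unfold thompsonSubgroupA
  rw [Subgroup.map_le_iff_le_comap]
  refine sSup_le fun A hA => ?_
  rw [← Subgroup.map_le_iff_le_comap]
  exact le_sSup (maxAbelian_map φ hA)

lemma thompsonA_map {Q R : Type*} [Group Q] [Group R] (φ : Q ≃* R) :
    (thompsonSubgroupA Q).map φ.toMonoidHom = thompsonSubgroupA R := by
  refine le_antisymm (thompsonA_map_le φ) ?_
  have := Subgroup.map_mono (f := φ.toMonoidHom) (thompsonA_map_le φ.symm)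
  rw [Subgroup.map_map] at this
  simpa using this

lemma exists_maxAbelian (Q : Type*) [Group Q] [Finite Q] : ∃ A : Subgroup Q, A ∈ maxAbelianSubgroups Q := by
  classical
  have hne : {A : Subgroup Q | IsMulCommutative A}.Nonempty :=
    ⟨⊥, (inferInstance : IsMulCommutative (⊥ : Subgroup Q))⟩
  obtain ⟨A, hA, hmax⟩ := Set.exists_max_image {A : Subgroup Q | IsMulCommutative A} (fun A => Nat.card A)
    (Set.toFinite _) hne
  exact ⟨A, hA, fun B hB => hmax B hB⟩

lemma isCharPFunctor_zjF : IsCharPFunctor.{u} p zjF := by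
  constructor
  · intro Q _ _ hQ hnt h
    -- `J(Q)` is a nontrivial `p`-group, so its centre is nontrivial
    set J := thompsonSubgroupA Q with hJ
    have hJne : J ≠ ⊥ := by
      intro hbot
      obtain ⟨A, hA⟩ := exists_maxAbelian Q
      have hAJ : A ≤ J := le_sSup hA
      rw [hbot, le_bot_iff] at hAJ
      obtain ⟨x, hx⟩ := exists_ne (1 : Q)
      have h1 := hA.2 (Subgroup.zpowers x) inferInstance
      rw [hAJ, Subgroup.card_bot] at h1
      have h2 : Subgroup.zpowers x = ⊥ := Subgroup.eq_bot_of_card_le _ h1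
      exact hx (Subgroup.zpowers_eq_bot.mp h2)
    have hJp : IsPGroup p J := hQ.to_subgroup J
    have : Nontrivial J := (Subgroup.nontrivial_iff_ne_bot J).mpr hJne
    have hc := hJp.center_nontrivial
    obtain ⟨z, hz⟩ := exists_ne (1 : Subgroup.center J)
    have hzm : ((z : J) : Q) ∈ zjF Q := by
      refine Subgroup.mem_inf.mpr ⟨(z : J).2, ?_⟩
      rw [Subgroup.mem_centralizer_iff]
      intro y hy
      have := (Subgroup.mem_center_iff.mp z.2) ⟨y, hy⟩
      exact congrArg Subtype.val this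
    rw [h, Subgroup.mem_bot] at hzm
    apply hz
    apply Subtype.ext
    apply Subtype.ext
    exact hzm
  · intro Q R _ _ _ _ φ
    unfold zjF
    rw [map_inf_centralizer φ.toMonoidHom φ.injective, thompsonA_map]

lemma inducedFunctor_zjF {G : Type u} [Group G] (P : Subgroup G) : inducedFunctor zjF P = centerThompsonAOf P := by
  unfold inducedFunctor zjF centerThompsonAOf thompsonSubgroupAOf
  rw [map_inf_centralizer P.subtype P.subtype_injective]

/-- `Z(J(P))` controls strong fusion in a `Qd(p)`-free group. -/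
theorem zj_sfc {G : Type u} [Group G] [Finite G] (hp : p ≠ 2) (hqd : ¬ Involves ↥(qd p) G) : SFc p {zjF} G := by
  have h𝓦 : ∀ W' ∈ ({zjF} : Set (∀ (Q : Type u) [Group Q], Subgroup Q)), IsCharPFunctor.{u} p W' := by
    intro W' hW'
    rw [Set.mem_singleton_iff] at hW'
    rw [hW']; exact isCharPFunctor_zjF
  refine sf_of_isSec h𝓦 ?_ G (IsSec.refl G)
  intro K R _ hc
  refine sfc_of_normal default ?_
  rw [inducedFunctor_zjF]
  refine Cfsg.Agent.S0664.result hp ?_ hc default
  intro h
  exact hqd (Dk.involves_section K R h)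

theorem zj_control {G : Type u} [Group G] [Finite G] (hp : p ≠ 2) (hqd : ¬ Involves ↥(qd p) G) (P : Sylow p G)
    {A : Subgroup G} {g : G} (hA : A ≤ P) (hAg : cj A g ≤ P) :
    ∃ x ∈ Subgroup.normalizer ((centerThompsonAOf (P : Subgroup G) : Subgroup G) : Set G),
      ∀ a ∈ A, x⁻¹ * a * x = g⁻¹ * a * g := by
  have h𝓦 : ∀ W' ∈ ({zjF} : Set (∀ (Q : Type u) [Group Q], Subgroup Q)), IsCharPFunctor.{u} p W' := by
    intro W' hW'
    rw [Set.mem_singleton_iff] at hW'
    rw [hW']; exact isCharPFunctor_zjF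
  obtain ⟨g', hg1, hg2⟩ := phi_of_sfc h𝓦 (zj_sfc hp hqd) P hA hAg
  have hsub : famSet (indFam {zjF} G) ⊤ (P : Subgroup G) ⊆
      ((Subgroup.normalizer ((centerThompsonAOf (P : Subgroup G) : Subgroup G) : Set G) : Subgroup G) : Set G) := by
    rintro x ⟨_, ⟨W', hW', rfl⟩, hx⟩
    rw [Set.mem_singleton_iff] at hW'
    subst hW'
    have : x ∈ Subgroup.normalizer ((inducedFunctor zjF (P : Subgroup G) : Subgroup G) : Set G) := hx.2
    rwa [inducedFunctor_zjF] at this
  exact ⟨g', (hg1.mono hsub le_rfl).mem_of_subgroup, hg2⟩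

lemma zj_le {G : Type u} [Group G] (P : Subgroup G) : centerThompsonAOf P ≤ P := by
  rw [← inducedFunctor_zjF]; exact inducedFunctor_le P

lemma zj_comm {G : Type u} [Group G] (P : Subgroup G) : ⁅centerThompsonAOf P, centerThompsonAOf P⁆ = ⊥ := by
  rw [Subgroup.commutator_eq_bot_iff_le_centralizer]
  exact inf_le_right.trans (Subgroup.centralizer_le inf_le_left)

/-- the chain of strongly closed subgroups with abelian quotients -/
def HasChain {G : Type u} [Group G] (P : Subgroup G) : Prop :=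
  ∃ (m : ℕ) (T : Fin (m + 1) → Subgroup G), T 0 = ⊥ ∧ T (Fin.last m) = P ∧ Monotone T ∧
    (∀ i, IsStronglyClosed (T i) P) ∧ ∀ i : Fin m, ⁅T i.succ, T i.succ⁆ ≤ T i.castSucc

lemma hasChain_of_subgroup {G : Type u} [Group G] {P N : Subgroup G} (hPN : P ≤ N)
    (hctl : ∀ x ∈ P, ∀ g : G, g * x * g⁻¹ ∈ P → ∃ n ∈ N, n * x * n⁻¹ = g * x * g⁻¹)
    (h : HasChain (P.subgroupOf N)) : HasChain P := by
  obtain ⟨m, T, h0, hl, hmono, hsc, hab⟩ := h
  refine ⟨m, fun i => (T i).map N.subtype, ?_, ?_, ?_, ?_, ?_⟩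
  · show (T 0).map N.subtype = ⊥
    rw [h0, Subgroup.map_bot]
  · show (T (Fin.last m)).map N.subtype = P
    rw [hl, Subgroup.subgroupOf_map_subtype, inf_eq_left.mpr hPN]
  · intro i j hij
    exact Subgroup.map_mono (hmono hij)
  · intro i
    have hTP : (T i).map N.subtype ≤ P := by
      have := Subgroup.map_mono (f := N.subtype) (hsc i).1
      rwa [Subgroup.subgroupOf_map_subtype, inf_eq_left.mpr hPN] at this
    refine ⟨hTP, ?_⟩
    rintro _ ⟨y, hy, rfl⟩ g hg
    obtain ⟨n, hn, e⟩ := hctl _ (hTP ⟨y, hy, rfl⟩) g hg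
    rw [← e]
    refine ⟨⟨n, hn⟩ * y * ⟨n, hn⟩⁻¹, (hsc i).2 y hy ⟨n, hn⟩ ?_, rfl⟩
    rw [Subgroup.mem_subgroupOf]
    show n * (y : G) * n⁻¹ ∈ P
    rw [Subgroup.subtype_apply] at e
    rw [e]; exact hg
  · intro i
    show ⁅(T i.succ).map N.subtype, (T i.succ).map N.subtype⁆ ≤ (T i.castSucc).map N.subtype
    rw [← Subgroup.map_commutator]
    exact Subgroup.map_mono (hab i)

lemma hasChain_of_quotient {G : Type u} [Group G] {P Z : Subgroup G} [Z.Normal] (hZP : Z ≤ P)
    (hZ : ⁅Z, Z⁆ = ⊥) (h : HasChain (P.map (QuotientGroup.mk' Z))) : HasChain P := by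
  obtain ⟨m, T, h0, hl, hmono, hsc, hab⟩ := h
  set π := QuotientGroup.mk' Z with hπ
  have hker : π.ker = Z := QuotientGroup.ker_mk' Z
  have hcomapP : (P.map π).comap π = P := by
    rw [Subgroup.comap_map_eq, hker, sup_eq_left]; exact hZP
  refine ⟨m + 1, Fin.cons ⊥ (fun i => (T i).comap π), rfl, ?_, ?_, ?_, ?_⟩
  · rw [← Fin.succ_last, Fin.cons_succ, hl, hcomapP]
  · rw [Fin.monotone_iff_le_succ]
    intro i
    refine Fin.cases ?_ (fun j => ?_) i
    · simp
    · rw [← Fin.succ_castSucc, Fin.cons_succ, Fin.cons_succ]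
      exact Subgroup.comap_mono (hmono (Fin.castSucc_le_succ j))
  · intro i
    refine Fin.cases ?_ (fun j => ?_) i
    · rw [Fin.cons_zero]
      refine ⟨bot_le, ?_⟩
      intro x hx g _
      rw [Subgroup.mem_bot] at hx
      rw [hx]; simp
    · rw [Fin.cons_succ]
      refine ⟨?_, ?_⟩
      · rw [← hcomapP]; exact Subgroup.comap_mono (hsc j).1
      · intro x hx g hg
        rw [Subgroup.mem_comap] at hx ⊢
        have := (hsc j).2 (π x) hx (π g) (by
          have := Subgroup.mem_map_of_mem π hg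
          simpa using this)
        simpa using this
  · intro i
    rw [Fin.cons_succ]
    refine Fin.cases ?_ (fun j => ?_) i
    · have e : (⊥ : Subgroup (G ⧸ Z)).comap π = Z := hker
      rw [Fin.castSucc_zero, Fin.cons_zero, h0, e, hZ]
    · rw [← Fin.succ_castSucc, Fin.cons_succ, ← Subgroup.map_le_iff_le_comap, Subgroup.map_commutator]
      exact (Subgroup.commutator_mono (Subgroup.map_comap_le _ _) (Subgroup.map_comap_le _ _)).trans (hab j)

theorem hasChain_of_qd_free (hp : p ≠ 2) : ∀ (n : ℕ) (G : Type u) [Group G] [Finite G], Nat.card G = n →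
    ¬ Involves ↥(qd p) G → ∀ P : Sylow p G, HasChain (P : Subgroup G) := by
  intro n
  induction n using Nat.strong_induction_on with
  | _ n ih =>
    intro G _ _ hn hqd P
    by_cases hP : (P : Subgroup G) = ⊥
    · refine ⟨0, fun _ => ⊥, rfl, hP.symm, fun _ _ _ => le_rfl, fun _ => ⟨bot_le, ?_⟩, fun i => i.elim0⟩
      intro x hx g _
      rw [Subgroup.mem_bot] at hx
      rw [hx]; simp
    set Z := centerThompsonAOf (P : Subgroup G) with hZ
    have hZP : Z ≤ P := zj_le _
    have hZne : Z ≠ ⊥ := by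
      rw [hZ, ← inducedFunctor_zjF]
      exact inducedFunctor_ne_bot isCharPFunctor_zjF _ P.2 hP
    by_cases hN : Subgroup.normalizer (Z : Set G) = ⊤
    · have hZn : Z.Normal := Subgroup.normalizer_eq_top_iff.mp hN
      refine hasChain_of_quotient hZP (zj_comm _) ?_
      have hsurj := QuotientGroup.mk'_surjective Z
      have := ih (Nat.card (G ⧸ Z)) (by rw [← hn]; exact card_quotient_lt hZne) (G ⧸ Z) rfl
        (fun h => hqd (Dk.involves_of_surjective h _ hsurj)) (P.mapSurjective hsurj)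
      rwa [Sylow.coe_mapSurjective] at this
    · set N := Subgroup.normalizer (Z : Set G) with hNdef
      have hPN : (P : Subgroup G) ≤ N := by
        have := normalizer_le_normalizer_functor (isConjugacyFunctor_induced (H := G) (isCharPFunctor_zjF (p := p))) P.2
        rw [inducedFunctor_zjF] at this
        exact Subgroup.le_normalizer.trans this
      refine hasChain_of_subgroup hPN ?_ ?_
      · intro x hx g hg
        have hA : Subgroup.zpowers x ≤ P := Subgroup.zpowers_le.mpr hx
        have hAg : cj (Subgroup.zpowers x) g⁻¹ ≤ P := by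
          unfold cj
          rw [inv_inv, MonoidHom.map_zpowers, Subgroup.zpowers_le]
          simpa using hg
        obtain ⟨y, hy, e⟩ := zj_control hp hqd P hA hAg
        refine ⟨y⁻¹, inv_mem hy, ?_⟩
        have := e x (Subgroup.mem_zpowers x)
        simpa using this
      · have := ih (Nat.card N) (by rw [← hn]; exact card_subgroup_lt hN) N rfl
          (fun h => hqd (Cfsg.Agent.Lib.Helper27.Involves.of_injective h N.subtype N.subtype_injective))
          (P.subtype hPN)
        rwa [Sylow.coe_subtype] at this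

end Cfsg.Agent.H4.QdC
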