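import Mathlib
import Cfsg.Agent.H12.Dk26

set_option autoImplicit false

namespace Cfsg.Agent.H4.QdC

open Cfsg Cfsg.Agent.H12 Cfsg.Agent.H12.Dk

variable {p : ℕ} [Fact p.Prime]

/-- If `Qd(p)` is involved in `G`, some `p`-local automizer involves `SL₂(p)`. -/
theorem exists_sl2_section_of_involves {G : Type*} [Group G] [Finite G] (h : Involves ↥(qd p) G) :
    ∃ Q : Subgroup G, IsPGroup p ↥Q ∧ ∃ (H K : Subgroup G) (_ : (K.subgroupOf H).Normal),
      Subgroup.centralizer (Q : Set G) ≤ K ∧ K ≤ H ∧ H ≤ Subgroup.normalizer (Q : Set G) ∧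
      Nonempty ((↥H ⧸ K.subgroupOf H) ≃* Matrix.SpecialLinearGroup (Fin 2) (ZMod p)) := by
  obtain ⟨K₀, R₀, hn, ⟨e⟩⟩ := h
  set f : K₀ →* ↥(qd p) := e.toMonoidHom.comp (QuotientGroup.mk' _) with hf
  have hfs : Function.Surjective f := e.surjective.comp (QuotientGroup.mk'_surjective _)
  set D := qdData p with hD
  obtain ⟨P₁, hP₁, hmap, hlift⟩ := exists_lift_pSubgroup f hfs D.W D.W_isPGroup
  set Q := P₁.map K₀.subtype with hQ
  have hQp : IsPGroup p Q := hP₁.map _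
  -- the relation
  let Rel : G → Matrix.SpecialLinearGroup (Fin 2) (ZMod p) → Prop := fun x k =>
    x ∈ Subgroup.normalizer (Q : Set G) ∧
      ∀ q q' : K₀, q ∈ P₁ → (q' : G) = x * q * x⁻¹ → f q' = D.j k * f q * (D.j k)⁻¹
  have hex : ∀ x ∈ Subgroup.normalizer (Q : Set G), ∀ q : K₀, q ∈ P₁ →
      ∃ q' : K₀, q' ∈ P₁ ∧ (q' : G) = x * q * x⁻¹ := by
    intro x hx q hq
    have h1 : x * q * x⁻¹ ∈ Q := (Subgroup.mem_normalizer_iff.mp hx _).mp ⟨q, hq, rfl⟩
    obtain ⟨q', hq', e1⟩ := h1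
    exact ⟨q', hq', e1⟩
  have hmemP : ∀ q : K₀, (q : G) ∈ Q → q ∈ P₁ := by
    rintro q ⟨q', hq', e1⟩
    have : q' = q := Subtype.ext e1
    rwa [← this]
  have hone : Rel 1 1 := by
    refine ⟨one_mem _, fun q q' _ e1 => ?_⟩
    have : q' = q := Subtype.ext (by simpa using e1)
    rw [this]; simp
  have hmul : ∀ x y k l, Rel x k → Rel y l → Rel (x * y) (k * l) := by
    rintro x y k l ⟨hx, hxk⟩ ⟨hy, hyl⟩
    refine ⟨mul_mem hx hy, fun q q'' hq e1 => ?_⟩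
    obtain ⟨q', hq', e2⟩ := hex y hy q hq
    have e3 : (q'' : G) = x * q' * x⁻¹ := by rw [e1, e2]; group
    rw [hxk q' q'' hq' e3, hyl q q' hq e2, map_mul]
    group
  have hinv : ∀ x k, Rel x k → Rel x⁻¹ k⁻¹ := by
    rintro x k ⟨hx, hxk⟩
    refine ⟨inv_mem hx, fun q q' hq e1 => ?_⟩
    have hq' : q' ∈ P₁ := by
      apply hmemP
      rw [e1]
      exact (Subgroup.mem_normalizer_iff.mp (inv_mem hx) _).mp ⟨q, hq, rfl⟩
    have e2 : (q : G) = x * q' * x⁻¹ := by rw [e1]; group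
    rw [hxk q' q hq' e2, map_inv]
    group
  have huniq : ∀ x k l, Rel x k → Rel x l → k = l := by
    rintro x k l ⟨hx, hxk⟩ ⟨-, hxl⟩
    apply act_inj
    intro v
    have hv : D.ι v ∈ P₁.map f := by rw [hmap]; exact ⟨v, rfl⟩
    obtain ⟨q, hq, e1⟩ := hv
    obtain ⟨q', hq', e2⟩ := hex x hx q hq
    have h1 := hxk q q' hq e2
    have h2 := hxl q q' hq e2
    rw [e1, D.compat] at h1 h2
    exact D.ι_inj (h1.symm.trans h2)
  let H : Subgroup G :=
    { carrier := {x | ∃ k, Rel x k}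
      mul_mem' := by
        rintro x y ⟨k, hk⟩ ⟨l, hl⟩
        exact ⟨k * l, hmul x y k l hk hl⟩
      one_mem' := ⟨1, hone⟩
      inv_mem' := by
        rintro x ⟨k, hk⟩
        exact ⟨k⁻¹, hinv x k hk⟩ }
  let Ψ : H →* Matrix.SpecialLinearGroup (Fin 2) (ZMod p) :=
    MonoidHom.mk' (fun x => x.2.choose) (by
      intro x y
      exact huniq _ _ _ (x * y).2.choose_spec (hmul _ _ _ _ x.2.choose_spec y.2.choose_spec))
  have hΨ : ∀ (x : H) k, Rel x k → Ψ x = k := fun x k hk => huniq _ _ _ x.2.choose_spec hk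
  have hΨs : Function.Surjective Ψ := by
    intro k
    obtain ⟨n', hn', e1⟩ := hlift (D.j k) (D.j_mem_normalizer k)
    have hR : Rel (n' : G) k := by
      refine ⟨Subgroup.le_normalizer_map K₀.subtype ⟨n', hn', rfl⟩, fun q q' _ e2 => ?_⟩
      have : q' = n' * q * n'⁻¹ := Subtype.ext (by rw [e2]; rfl)
      rw [this, map_mul, map_mul, map_inv, e1]
    exact ⟨⟨n', k, hR⟩, hΨ _ _ hR⟩
  have hK : ((Ψ.ker.map H.subtype).subgroupOf H) = Ψ.ker :=
    Subgroup.comap_map_eq_self_of_injective H.subtype_injective _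
  have hKn : ((Ψ.ker.map H.subtype).subgroupOf H).Normal := by rw [hK]; infer_instance
  refine ⟨Q, hQp, H, Ψ.ker.map H.subtype, hKn, ?_, Subgroup.map_subtype_le _, ?_, ?_⟩
  · intro x hx
    have hR : Rel x 1 := by
      refine ⟨Subgroup.centralizer_le_normalizer _ hx, fun q q' hq e1 => ?_⟩
      have h1 := (Subgroup.mem_centralizer_iff.mp hx) q ⟨q, hq, rfl⟩
      have : q' = q := Subtype.ext (by rw [e1, ← h1]; group)
      rw [this]; simp
    exact ⟨⟨x, 1, hR⟩, hΨ _ _ hR, rfl⟩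
  · rintro x ⟨k, hk⟩
    exact hk.1
  · exact ⟨(QuotientGroup.quotientMulEquivOfEq hK).trans (QuotientGroup.quotientKerEquivOfSurjective Ψ hΨs)⟩

end Cfsg.Agent.H4.QdC
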