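import Mathlib
import Cfsg.Prelude.Def_Solvable
import Cfsg.Agent.S0143
import Cfsg.Agent.H1.Fit
import Cfsg.Agent.H1.Hall
import Cfsg.Agent.H4.Basic2
import Cfsg.Agent.Tr.Wielandt

set_option autoImplicit false

namespace Cfsg.Agent.H4

open Subgroup

universe u

/-- all `p`-regular elements have `p`-power index centralizers -/
def PReg (p : ℕ) (G : Type u) [Group G] : Prop :=
  ∀ x : G, (orderOf x).Coprime p → ∃ k : ℕ, (centralizer ({x} : Set G)).index = p ^ k

theorem relIndex_dvd_index_of_normal_right' {G : Type*} [Group G] [Finite G] (X N : Subgroup G)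
    [N.Normal] : X.relIndex N ∣ X.index := by
  rw [← relIndex_sup_normal]
  exact Dvd.intro _ (relIndex_mul_index le_sup_left)

theorem PReg.subgroup {G : Type u} [Group G] [Finite G] {p : ℕ} (hp : p.Prime) (h : PReg p G)
    (N : Subgroup G) [N.Normal] : PReg p N := by
  intro x hx
  obtain ⟨k, hk⟩ := h (x : G) (by rwa [Subgroup.orderOf_coe])
  have h1 : (centralizer ({x} : Set N)) = (centralizer ({(x : G)} : Set G)).subgroupOf N := by
    ext y
    simp only [mem_centralizer_iff, Set.mem_singleton_iff, forall_eq, mem_subgroupOf]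
    rw [Subtype.ext_iff]
    simp
  have h2 : (centralizer ({x} : Set N)).index ∣ p ^ k := by
    rw [h1, ← hk]
    exact relIndex_dvd_index_of_normal_right' _ _
  obtain ⟨j, _, hj⟩ := (Nat.dvd_prime_pow hp).1 h2
  exact ⟨j, hj⟩

theorem exists_lift_coprime {G : Type u} [Group G] [Finite G] {p : ℕ} (hp : p.Prime)
    (N : Subgroup G) [N.Normal] (y : G ⧸ N) (hy : (orderOf y).Coprime p) :
    ∃ x : G, (x : G ⧸ N) = y ∧ (orderOf x).Coprime p := by
  obtain ⟨g, rfl⟩ := QuotientGroup.mk_surjective y
  obtain ⟨a, m, hm, hgm⟩ := Nat.exists_eq_pow_mul_and_not_dvd (orderOf_pos g).ne' p hp.ne_one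
  have hcop : (p ^ a).Coprime (orderOf (g : G ⧸ N)) := (Nat.Coprime.pow_right a hy).symm
  obtain ⟨t, ht⟩ := exists_pow_eq_self_of_coprime hcop
  refine ⟨(g ^ (p ^ a)) ^ t, by simpa using ht, ?_⟩
  have h1 : orderOf (g ^ (p ^ a)) = m := by
    rw [orderOf_pow_of_dvd (pow_ne_zero _ hp.ne_zero) (by rw [hgm]; exact Dvd.intro _ rfl), hgm,
      Nat.mul_div_cancel_left _ (pow_pos hp.pos _)]
  have h2 : orderOf ((g ^ (p ^ a)) ^ t) ∣ m := h1 ▸ orderOf_pow_dvd t
  exact Nat.Coprime.coprime_dvd_left h2 ((Nat.Prime.coprime_iff_not_dvd hp).2 hm).symm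

theorem PReg.quotient {G : Type u} [Group G] [Finite G] {p : ℕ} (hp : p.Prime) (h : PReg p G)
    (N : Subgroup G) [N.Normal] : PReg p (G ⧸ N) := by
  intro y hy
  obtain ⟨x, rfl, hx⟩ := exists_lift_coprime hp N y hy
  obtain ⟨k, hk⟩ := h x hx
  have h1 : (centralizer ({x} : Set G)).map (QuotientGroup.mk' N) ≤
      centralizer ({(x : G ⧸ N)} : Set (G ⧸ N)) := by
    rintro _ ⟨c, hc, rfl⟩
    simp only [SetLike.mem_coe, mem_centralizer_iff, Set.mem_singleton_iff, forall_eq] at hc ⊢
    simp only [QuotientGroup.mk'_apply]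
    rw [← QuotientGroup.mk_mul, ← QuotientGroup.mk_mul, hc]
  have h2 : (centralizer ({(x : G ⧸ N)} : Set (G ⧸ N))).index ∣ p ^ k := by
    rw [← hk]
    exact (index_dvd_of_le h1).trans (index_map_dvd _ (QuotientGroup.mk'_surjective N))
  obtain ⟨j, _, hj⟩ := (Nat.dvd_prime_pow hp).1 h2
  exact ⟨j, hj⟩

theorem PReg.isSolvable_aux {p : ℕ} (hp : p.Prime) (n : ℕ) :
    ∀ (G : Type u) [Group G] [Finite G], Nat.card G ≤ n → PReg p G → Group.IsSolvable G := by
  induction n with
  | zero =>
    intro G _ _ h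
    exact absurd h (by have := Nat.card_pos (α := G); omega)
  | succ n ih =>
    intro G _ _ hn h
    by_cases hsub : Subsingleton G
    · infer_instance
    have : Nontrivial G := not_subsingleton_iff_nontrivial.1 hsub
    by_cases hs : ∃ N : Subgroup G, N.Normal ∧ N ≠ ⊥ ∧ N ≠ ⊤
    · obtain ⟨N, hN, hb, ht⟩ := hs
      have c1 : Nat.card N < Nat.card G := by
        have h1 := N.card_mul_index
        have h2 : N.index ≠ 1 := fun h => ht (index_eq_one.1 h)
        have h3 : N.index ≠ 0 := index_ne_zero_of_finite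
        have h4 := Nat.card_pos (α := N)
        nlinarith [Nat.lt_of_le_of_ne (Nat.pos_of_ne_zero h3) (Ne.symm h2)]
      have c2 : Nat.card (G ⧸ N) < Nat.card G := by
        have h1 := N.card_mul_index
        have h2 : Nat.card N ≠ 1 := fun h => hb (card_eq_one.1 h)
        have h4 := Nat.card_pos (α := N)
        have h3 : N.index ≠ 0 := index_ne_zero_of_finite
        rw [← Subgroup.index_eq_card]
        nlinarith [Nat.lt_of_le_of_ne h4 (Ne.symm h2), Nat.pos_of_ne_zero h3]
      have s1 : Group.IsSolvable N := ih N (by omega) (h.subgroup hp N)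
      have s2 : Group.IsSolvable (G ⧸ N) := ih (G ⧸ N) (by omega) (h.quotient hp N)
      exact Group.isSolvable_of_ker_le_range N.subtype (QuotientGroup.mk' N) (by simp)
    · push Not at hs
      have hsimple : IsSimpleGroup G := ⟨fun N hN => by
        by_cases hb : N = ⊥
        · exact Or.inl hb
        · exact Or.inr (hs N hN hb)⟩
      by_cases hx : ∃ x : G, x ≠ 1 ∧ (orderOf x).Coprime p
      · obtain ⟨x, hx1, hxp⟩ := hx
        obtain ⟨k, hk⟩ := h x hxp
        have hprime := Cfsg.Agent.S0143.result p k hp x hx1 hk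
        have : Fact (Nat.card G).Prime := ⟨hprime⟩
        have : IsCyclic G := isCyclic_of_prime_card rfl
        have hc : IsMulCommutative G := IsCyclic.isMulCommutative
        exact Group.isSolvable_of_comm (fun a b => hc.is_comm.comm a b)
      · push Not at hx
        have hpg : IsPGroup p G := by
          intro g
          obtain ⟨a, m, hm, hgm⟩ :=
            Nat.exists_eq_pow_mul_and_not_dvd (orderOf_pos g).ne' p hp.ne_one
          refine ⟨a, ?_⟩
          by_contra hne
          refine hx _ hne ?_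
          have h1 : orderOf (g ^ (p ^ a)) = m := by
            rw [orderOf_pow_of_dvd (pow_ne_zero _ hp.ne_zero) (by rw [hgm]; exact Dvd.intro _ rfl),
              hgm, Nat.mul_div_cancel_left _ (pow_pos hp.pos _)]
          rw [h1]
          exact ((Nat.Prime.coprime_iff_not_dvd hp).2 hm).symm
        have : Fact p.Prime := ⟨hp⟩
        have : Group.IsNilpotent G := hpg.isNilpotent
        infer_instance

theorem PReg.isSolvable {G : Type u} [Group G] [Finite G] {p : ℕ} (hp : p.Prime)
    (h : PReg p G) : Group.IsSolvable G := PReg.isSolvable_aux hp _ G le_rfl h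

/-- a normal `p'`-subgroup lies in every subgroup of `p`-power index -/
theorem le_of_normal_coprime_of_index_pow {G : Type u} [Group G] [Finite G] {p k : ℕ}
    (N C : Subgroup G) [N.Normal] (hN : (Nat.card N).Coprime p) (hC : C.index = p ^ k) : N ≤ C := by
  rw [← relIndex_eq_one]
  have h1 : C.relIndex N ∣ p ^ k := hC ▸ relIndex_dvd_index_of_normal_right' C N
  have h2 : C.relIndex N ∣ Nat.card N := by
    rw [← inf_relIndex_right]
    exact Dvd.intro_left _ (card_mul_relIndex_of_le inf_le_right)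
  exact Nat.eq_one_of_dvd_coprimes (Nat.Coprime.pow_right k hN) h2 h1

theorem pCore_quotient_pCore {G : Type u} [Group G] (p : ℕ) [Fact p.Prime] :
    have := Cfsg.H1.pCore_normal (G := G) p
    Cfsg.pCore p (G ⧸ Cfsg.pCore p G) = ⊥ := by
  intro _
  have hn := Cfsg.H1.pCore_normal (G := G ⧸ Cfsg.pCore p G) p
  have hpg := Cfsg.H1.pCore_isPGroup (G := G ⧸ Cfsg.pCore p G) p
  set T := Cfsg.pCore p (G ⧸ Cfsg.pCore p G) with hT
  have h1 : IsPGroup p (T.comap (QuotientGroup.mk' (Cfsg.pCore p G))) := by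
    apply hpg.comap_of_ker_isPGroup
    rw [QuotientGroup.ker_mk']
    exact Cfsg.H1.pCore_isPGroup p
  have h2 : T.comap (QuotientGroup.mk' (Cfsg.pCore p G)) ≤ Cfsg.pCore p G :=
    Cfsg.H1.le_pCore (hn.comap _) h1
  rw [eq_bot_iff]
  intro y hy
  obtain ⟨g, rfl⟩ := QuotientGroup.mk_surjective y
  have : g ∈ T.comap (QuotientGroup.mk' (Cfsg.pCore p G)) := hy
  rw [mem_bot]
  exact (QuotientGroup.eq_one_iff g).2 (h2 this)

/-- if `O_p(G) = 1`, `p`-regular elements commute -/
theorem PReg.commute_of_pCore_eq_bot {G : Type u} [Group G] [Finite G] {p : ℕ} [Fact p.Prime]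
    (h : PReg p G) (hc : Cfsg.pCore p G = ⊥) (x y : G) (hx : (orderOf x).Coprime p)
    (hy : (orderOf y).Coprime p) : x * y = y * x := by
  have hp : p.Prime := Fact.out
  have hs : Group.IsSolvable G := h.isSolvable hp
  have key : ∀ z : G, (orderOf z).Coprime p →
      Cfsg.fittingSubgroup G ≤ centralizer ({z} : Set G) := by
    intro z hz
    obtain ⟨k, hk⟩ := h z hz
    rw [Cfsg.H1.fitting_eq_iSup_pCore]
    apply iSup_le
    intro q
    by_cases hq : (q : ℕ) = p
    · rw [hq, hc]; exact bot_le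
    · have := Cfsg.H1.pCore_normal (G := G) (q : ℕ)
      refine le_of_normal_coprime_of_index_pow _ _ ?_ hk
      have : Fact (q : ℕ).Prime := ⟨q.2⟩
      obtain ⟨n, hn⟩ := (IsPGroup.iff_card).1 (Cfsg.H1.pCore_isPGroup (G := G) (q : ℕ))
      rw [hn]
      exact Nat.Coprime.pow_left n ((Nat.coprime_primes q.2 hp).2 hq)
  have hxF : x ∈ Cfsg.fittingSubgroup G := by
    apply Cfsg.H1.centralizer_fitting_le
    rw [mem_centralizer_iff]
    intro f hf
    have := key x hx hf
    simp only [mem_centralizer_iff, Set.mem_singleton_iff, forall_eq] at this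
    exact this.symm
  have := key y hy hxF
  simp only [mem_centralizer_iff, Set.mem_singleton_iff, forall_eq] at this
  exact this.symm

end Cfsg.Agent.H4
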