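import Mathlib
import Cfsg.Agent.H4.Basic2
import Cfsg.Agent.H4.Subnormal2
import Cfsg.Agent.H4.Factor

/-! Schmidt's theorem, part 1: a finite group all of whose proper subgroups are nilpotent is
solvable. -/

namespace Cfsg.Agent.H4

open Subgroup
open scoped Pointwise

universe u

theorem card_ne_subtype {α : Type*} [Finite α] (a : α) :
    Nat.card {x : α // x ≠ a} = Nat.card α - 1 := by
  classical
  have := Fintype.ofFinite α
  simp [Nat.card_eq_fintype_card, Fintype.card_subtype_compl]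

section TI

variable {G : Type*} [Group G]

/-- conjugation map from (cosets) × (nonidentity elements of `M`). -/
noncomputable def conjMap (M : Subgroup G) : (G ⧸ M) × {x : M // x ≠ 1} → {y : G // y ≠ 1} :=
  fun c => ⟨c.1.out * (c.2.1 : G) * c.1.out⁻¹, by
    intro h
    apply c.2.2
    apply Subtype.ext
    have : (c.2.1 : G) = c.1.out⁻¹ * (c.1.out * (c.2.1 : G) * c.1.out⁻¹) * c.1.out := by group
    rw [this, h]
    simp⟩

theorem conjMap_eq_aux {M₁ M₂ : Subgroup G} {c : (G ⧸ M₁) × {x : M₁ // x ≠ 1}}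
    {d : (G ⧸ M₂) × {x : M₂ // x ≠ 1}} (h : (conjMap M₁ c : G) = conjMap M₂ d) :
    (c.2.1 : G) ∈ M₁ ⊓ MulAut.conj (c.1.out⁻¹ * d.1.out) • M₂ := by
  refine ⟨c.2.1.2, ?_⟩
  have h' : c.1.out * (c.2.1 : G) * c.1.out⁻¹ = d.1.out * (d.2.1 : G) * d.1.out⁻¹ := h
  have e : (c.2.1 : G) = MulAut.conj (c.1.out⁻¹ * d.1.out) • (d.2.1 : G) := by
    rw [MulAut.smul_def, MulAut.conj_apply]
    have : (c.2.1 : G) = c.1.out⁻¹ * (c.1.out * (c.2.1 : G) * c.1.out⁻¹) * c.1.out := by group
    rw [this, h']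
    group
  rw [e]
  exact smul_mem_pointwise_smul _ _ _ d.2.1.2

theorem conjMap_injective (M : Subgroup G)
    (hTI : ∀ g : G, g ∉ M → M ⊓ MulAut.conj g • M = ⊥) : Function.Injective (conjMap M) := by
  intro c d h
  have h0 : (conjMap M c : G) = conjMap M d := congrArg Subtype.val h
  have h1 := conjMap_eq_aux h0
  have hg : c.1.out⁻¹ * d.1.out ∈ M := by
    by_contra hg
    rw [hTI _ hg, mem_bot] at h1
    exact c.2.2 (Subtype.ext h1)
  have hcd : c.1 = d.1 := by
    rw [← QuotientGroup.out_eq' c.1, ← QuotientGroup.out_eq' d.1]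
    exact QuotientGroup.eq.2 hg
  have h' : c.1.out * (c.2.1 : G) * c.1.out⁻¹ = d.1.out * (d.2.1 : G) * d.1.out⁻¹ := h0
  rw [hcd] at h'
  have h2 : (c.2.1 : G) = d.2.1 := by
    have := mul_right_cancel h'
    exact mul_left_cancel this
  exact Prod.ext hcd (Subtype.ext (Subtype.ext h2))

theorem mem_range_conjMap (M : Subgroup G) (y : {y : G // y ≠ 1}) (g : G)
    (h : (y : G) ∈ MulAut.conj g • M) : y ∈ Set.range (conjMap M) := by
  rw [mem_pointwise_smul_iff_inv_smul_mem, ← map_inv, MulAut.smul_def, MulAut.conj_apply,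
    inv_inv] at h
  -- g = out * m
  have hm : (QuotientGroup.mk g : G ⧸ M).out⁻¹ * g ∈ M := by
    rw [← QuotientGroup.eq, QuotientGroup.out_eq']
  set o := (QuotientGroup.mk g : G ⧸ M).out with ho
  have hx : (o⁻¹ * g) * (g⁻¹ * (y : G) * g) * (o⁻¹ * g)⁻¹ ∈ M :=
    M.mul_mem (M.mul_mem hm h) (M.inv_mem hm)
  have hx1 : (⟨_, hx⟩ : M) ≠ 1 := by
    intro e
    have e' : (o⁻¹ * g) * (g⁻¹ * (y : G) * g) * (o⁻¹ * g)⁻¹ = 1 := congrArg Subtype.val e
    apply y.2
    have : (y : G) = o * ((o⁻¹ * g) * (g⁻¹ * (y : G) * g) * (o⁻¹ * g)⁻¹) * o⁻¹ := by group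
    rw [this, e']
    group
  refine ⟨(QuotientGroup.mk g, ⟨⟨_, hx⟩, hx1⟩), ?_⟩
  apply Subtype.ext
  change o * ((o⁻¹ * g) * (g⁻¹ * (y : G) * g) * (o⁻¹ * g)⁻¹) * o⁻¹ = y
  group

theorem card_domain [Finite G] (M : Subgroup G) :
    Nat.card ((G ⧸ M) × {x : M // x ≠ 1}) = M.index * (Nat.card M - 1) := by
  rw [Nat.card_prod, card_ne_subtype, index_eq_card]

theorem conj_isCoatom {M : Subgroup G} (hM : IsCoatom M) (g : G) :
    IsCoatom (MulAut.conj g • M) := by
  constructor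
  · intro e
    apply hM.1
    have := congrArg (fun L => MulAut.conj g⁻¹ • L) e
    simp only [← mul_smul, ← map_mul, inv_mul_cancel, map_one, one_smul] at this
    rw [this]
    exact Subgroup.Normal.conj_smul_eq_self _ _
  · intro L hL
    have h1 : M < MulAut.conj g⁻¹ • L := by
      have h2 : MulAut.conj g⁻¹ • (MulAut.conj g • M) < MulAut.conj g⁻¹ • L := by
        refine lt_of_le_of_ne (pointwise_smul_le_pointwise_smul_iff.2 hL.le) ?_
        intro e
        exact hL.ne (smul_left_cancel _ e)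
      rwa [← mul_smul, ← map_mul, inv_mul_cancel, map_one, one_smul] at h2
    have h3 := hM.2 _ h1
    have := congrArg (fun L => MulAut.conj g • L) h3
    simp only [← mul_smul, ← map_mul, mul_inv_cancel, map_one, one_smul] at this
    rw [this]
    exact Subgroup.Normal.conj_smul_eq_self _ _

/-- in a nilpotent subgroup `M`, a proper subgroup `I` grows in its normalizer -/
theorem exists_mem_normalizer_of_lt {I M : Subgroup G} [hM : Group.IsNilpotent M] (h : I < M) :
    ∃ x ∈ M, x ∉ I ∧ x ∈ normalizer (I : Set G) := by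
  have h1 : I.subgroupOf M < ⊤ := by
    rw [lt_top_iff_ne_top, Ne, subgroupOf_eq_top]
    exact not_le_of_gt h
  have h2 := Group.normalizerCondition_of_isNilpotent (G := M) _ h1
  rw [← subgroupOf_normalizer_eq h.le] at h2
  obtain ⟨x, hx, hx'⟩ := SetLike.exists_of_lt h2
  exact ⟨x, x.2, hx', hx⟩

theorem false_of_simple_case [Finite G] [Nontrivial G]
    (h1 : ∀ N : Subgroup G, N.Normal → N = ⊥ ∨ N = ⊤)
    (h2 : ∀ H : Subgroup G, H ≠ ⊤ → Group.IsNilpotent H)
    (h3 : ∀ x : G, zpowers x ≠ ⊤) : False := by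
  have hc0 : ∀ M : Subgroup G, IsCoatom M → M ≠ ⊥ := by
    rintro M hM rfl
    obtain ⟨x, hx⟩ := exists_ne (1 : G)
    apply h3 x
    apply hM.2
    rw [bot_lt_iff_ne_bot, Ne, zpowers_eq_bot]
    exact hx
  have hcN : ∀ M : Subgroup G, IsCoatom M → normalizer (M : Set G) = M := by
    intro M hM
    by_contra hne
    have h4 : normalizer (M : Set G) = ⊤ := hM.2 _ (lt_of_le_of_ne le_normalizer (Ne.symm hne))
    rcases h1 M (normalizer_eq_top_iff.1 h4) with h5 | h5
    · exact hc0 M hM h5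
    · exact hM.1 h5
  have hTI : ∀ M₁ M₂ : Subgroup G, IsCoatom M₁ → IsCoatom M₂ → M₁ ≠ M₂ → M₁ ⊓ M₂ = ⊥ := by
    by_contra hcon
    push Not at hcon
    obtain ⟨A₁, A₂, hA₁, hA₂, hne, hI⟩ := hcon
    obtain ⟨⟨M₁, M₂⟩, ⟨hM₁, hM₂, hne', hI'⟩, hmax⟩ := Set.exists_max_image
      {X : Subgroup G × Subgroup G | IsCoatom X.1 ∧ IsCoatom X.2 ∧ X.1 ≠ X.2 ∧ X.1 ⊓ X.2 ≠ ⊥}
      (fun X => Nat.card (X.1 ⊓ X.2 : Subgroup G)) (Set.toFinite _) ⟨(A₁, A₂), hA₁, hA₂, hne, hI⟩
    simp only at hM₁ hM₂ hne' hI' hmax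
    have hItop : M₁ ⊓ M₂ ≠ ⊤ := fun e => hM₁.1 (top_le_iff.1 (e ▸ inf_le_left))
    have hNtop : normalizer ((M₁ ⊓ M₂ : Subgroup G) : Set G) ≠ ⊤ := by
      intro e
      rcases h1 _ (normalizer_eq_top_iff.1 e) with h5 | h5
      · exact hI' h5
      · exact hItop h5
    obtain ⟨M, hM, hNM⟩ := (eq_top_or_exists_le_coatom _).resolve_left hNtop
    have key : ∀ L : Subgroup G, IsCoatom L → M₁ ⊓ M₂ < L → L = M := by
      intro L hL hlt
      by_contra hLM
      have := h2 L hL.1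
      obtain ⟨x, hxL, hxI, hxN⟩ := exists_mem_normalizer_of_lt hlt
      have hle : M₁ ⊓ M₂ ≤ L ⊓ M := le_inf hlt.le (le_normalizer.trans hNM)
      have h6 := hmax (L, M) ⟨hL, hM, hLM, fun e => hI' (le_bot_iff.1 (e ▸ hle))⟩
      simp only at h6
      have h7 := eq_of_le_of_card_ge hle h6
      apply hxI
      rw [h7]
      exact ⟨hxL, hNM hxN⟩
    have e1 := key M₁ hM₁ (lt_of_le_of_ne inf_le_left (fun e => hne' (by
      have : M₁ ≤ M₂ := e ▸ inf_le_right
      exact hM₁.le_iff_eq hM₂.1 |>.1 this |>.symm ▸ rfl)))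
    have e2 := key M₂ hM₂ (lt_of_le_of_ne inf_le_right (fun e => hne' (by
      have : M₂ ≤ M₁ := e ▸ inf_le_left
      exact (hM₂.le_iff_eq hM₁.1 |>.1 this))))
    exact hne' (e1.trans e2.symm)
  -- counting
  have hTI' : ∀ M : Subgroup G, IsCoatom M → ∀ g : G, g ∉ M → M ⊓ MulAut.conj g • M = ⊥ := by
    intro M hM g hg
    apply hTI M _ hM (conj_isCoatom hM g)
    intro e
    apply hg
    rw [← hcN M hM, ← conj_smul_eq_iff_mem_normalizer]
    exact e.symm
  have hbound : ∀ M : Subgroup G, IsCoatom M → 2 ≤ Nat.card M ∧ 2 ≤ M.index := by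
    intro M hM
    constructor
    · have : Nontrivial M := (nontrivial_iff_ne_bot M).2 (hc0 M hM)
      exact Finite.one_lt_card
    · have h0 : M.index ≠ 0 := index_ne_zero_of_finite
      have h1' : M.index ≠ 1 := fun e => hM.1 (index_eq_one.1 e)
      omega
  obtain ⟨M₁, hM₁, -⟩ := (eq_top_or_exists_le_coatom (⊥ : Subgroup G)).resolve_left bot_ne_top
  have hcardG : Nat.card {y : G // y ≠ 1} = Nat.card G - 1 := card_ne_subtype 1
  -- a coatom not conjugate to M₁
  have hex : ∃ M₂ : Subgroup G, IsCoatom M₂ ∧ ∀ g : G, M₁ ≠ MulAut.conj g • M₂ := by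
    by_contra hcon
    push Not at hcon
    have hsurj : Function.Surjective (conjMap M₁) := by
      intro y
      obtain ⟨M, hM, hyM⟩ := (eq_top_or_exists_le_coatom (zpowers (y : G))).resolve_left (h3 _)
      obtain ⟨g, hg⟩ := hcon M hM
      apply mem_range_conjMap M₁ y g⁻¹
      rw [hg, ← mul_smul, ← map_mul, inv_mul_cancel, map_one, one_smul]
      exact hyM (mem_zpowers _)
    have hle := Nat.card_le_card_of_surjective _ hsurj
    rw [hcardG, card_domain] at hle
    obtain ⟨hm, hk⟩ := hbound M₁ hM₁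
    have e := M₁.card_mul_index
    obtain ⟨m, hm'⟩ : ∃ m, Nat.card M₁ = m + 2 := ⟨Nat.card M₁ - 2, by omega⟩
    rw [hm'] at hle e
    have : M₁.index * (m + 2 - 1) = M₁.index * m + M₁.index := by
      have : m + 2 - 1 = m + 1 := by omega
      rw [this]; ring
    rw [this] at hle
    have e' : Nat.card G = M₁.index * m + 2 * M₁.index := by rw [← e]; ring
    omega
  obtain ⟨M₂, hM₂, hnc⟩ := hex
  have hinj : Function.Injective (Sum.elim (conjMap M₁) (conjMap M₂)) := by
    apply Function.Injective.sumElim (conjMap_injective M₁ (hTI' M₁ hM₁))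
      (conjMap_injective M₂ (hTI' M₂ hM₂))
    intro c d e
    have h4 := conjMap_eq_aux (congrArg Subtype.val e)
    rw [hTI M₁ _ hM₁ (conj_isCoatom hM₂ _) (hnc _), mem_bot] at h4
    exact c.2.2 (Subtype.ext h4)
  have hle := Nat.card_le_card_of_injective _ hinj
  rw [Nat.card_sum, hcardG, card_domain, card_domain] at hle
  obtain ⟨hm₁, hk₁⟩ := hbound M₁ hM₁
  obtain ⟨hm₂, hk₂⟩ := hbound M₂ hM₂
  have e₁ := M₁.card_mul_index
  have e₂ := M₂.card_mul_index
  obtain ⟨m₁, hm₁'⟩ : ∃ m, Nat.card M₁ = m + 2 := ⟨Nat.card M₁ - 2, by omega⟩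
  obtain ⟨m₂, hm₂'⟩ : ∃ m, Nat.card M₂ = m + 2 := ⟨Nat.card M₂ - 2, by omega⟩
  rw [hm₁'] at hle e₁
  rw [hm₂'] at hle e₂
  have t₁ : M₁.index * (m₁ + 2 - 1) = M₁.index * m₁ + M₁.index := by
    have : m₁ + 2 - 1 = m₁ + 1 := by omega
    rw [this]; ring
  have t₂ : M₂.index * (m₂ + 2 - 1) = M₂.index * m₂ + M₂.index := by
    have : m₂ + 2 - 1 = m₂ + 1 := by omega
    rw [this]; ring
  rw [t₁, t₂] at hle
  have e₁' : Nat.card G = M₁.index * m₁ + 2 * M₁.index := by rw [← e₁]; ring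
  have e₂' : Nat.card G = M₂.index * m₂ + 2 * M₂.index := by rw [← e₂]; ring
  have hpos : 0 < Nat.card G := Nat.card_pos
  generalize M₁.index * m₁ = u₁ at *
  generalize M₂.index * m₂ = u₂ at *
  omega

end TI

theorem solvable_of_proper_nilpotent_aux (n : ℕ) : ∀ (G : Type u) [Group G] [Finite G],
    Nat.card G = n → (∀ H : Subgroup G, H ≠ ⊤ → Group.IsNilpotent H) → Group.IsSolvable G := by
  induction n using Nat.strong_induction_on with
  | _ n ih =>
  intro G _ _ hn h2
  by_cases hN : ∃ N : Subgroup G, N.Normal ∧ N ≠ ⊥ ∧ N ≠ ⊤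
  · obtain ⟨N, hNn, hN0, hNt⟩ := hN
    rw [Group.isSolvable_iff_subgroup_quotient N]
    have := h2 N hNt
    refine ⟨inferInstance, ?_⟩
    apply ih _ (hn ▸ card_quotient_lt N hN0) (G ⧸ N) rfl
    intro L hL
    have h4 : L.comap (QuotientGroup.mk' N) ≠ ⊤ := by
      intro e
      apply hL
      rw [← map_comap_eq_self_of_surjective (QuotientGroup.mk'_surjective N) L, e,
        map_top_of_surjective _ (QuotientGroup.mk'_surjective N)]
    have := h2 _ h4
    have h5 := Group.nilpotent_of_surjective _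
      ((QuotientGroup.mk' N).subgroupMap_surjective (L.comap (QuotientGroup.mk' N)))
    rwa [map_comap_eq_self_of_surjective (QuotientGroup.mk'_surjective N) L] at h5
  · push Not at hN
    rcases subsingleton_or_nontrivial G with hs | hnt
    · exact Group.isSolvable_of_comm (fun a b => Subsingleton.elim _ _)
    by_cases h3 : ∃ x : G, zpowers x = ⊤
    · obtain ⟨x, hx⟩ := h3
      have : IsCyclic G := ⟨x, fun y => by
        have : y ∈ zpowers x := hx ▸ mem_top y
        exact this⟩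
      exact Group.isSolvable_of_comm (fun a b => IsCyclic.commGroup.mul_comm a b)
    · push Not at h3
      exfalso
      apply false_of_simple_case (G := G) _ h2 h3
      intro N hNn
      by_cases hN0 : N = ⊥
      · exact Or.inl hN0
      · exact Or.inr (hN N hNn hN0)

/-- **Schmidt**: a finite group all of whose proper subgroups are nilpotent is solvable. -/
theorem solvable_of_proper_nilpotent {G : Type u} [Group G] [Finite G]
    (h : ∀ H : Subgroup G, H ≠ ⊤ → Group.IsNilpotent H) : Group.IsSolvable G :=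
  solvable_of_proper_nilpotent_aux _ G rfl h

end Cfsg.Agent.H4
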