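import Mathlib
import Cfsg.Agent.H4.Schmidt
import Cfsg.Agent.H4.Clt
import Cfsg.Agent.H1.Brodkey

/-! Consequences of Schmidt's theorem: Wielandt's theorem on nilpotent Hall subgroups. -/

namespace Cfsg.Agent.H4

open Subgroup
open scoped Pointwise commutatorElement

universe u

theorem isNilpotent_of_le {G : Type*} [Group G] {A B : Subgroup G} (h : A ≤ B)
    (hB : Group.IsNilpotent B) : Group.IsNilpotent A :=
  Group.nilpotent_of_mulEquiv (subgroupOfEquivOfLe h)

theorem isNilpotent_conj {G : Type*} [Group G] (g : G) {H : Subgroup G}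
    (hH : Group.IsNilpotent H) : Group.IsNilpotent (MulAut.conj g • H : Subgroup G) :=
  Group.nilpotent_of_mulEquiv (Subgroup.equivSMul (MulAut.conj g) H)

theorem exists_normal_prime_index {G : Type*} [Group G] [Finite G] [Group.IsSolvable G]
    [Nontrivial G] : ∃ M : Subgroup G, M.Normal ∧ M.index.Prime := by
  have hlt := Group.IsSolvable.commutator_lt_top_of_nontrivial G
  obtain ⟨M, hM, hle⟩ := (eq_top_or_exists_le_coatom (commutator G)).resolve_left hlt.ne
  have hMn : M.Normal := by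
    constructor
    intro m hm g
    have : g * m * g⁻¹ = ⁅g, m⁆ * m := by rw [commutatorElement_def]; group
    rw [this]
    refine M.mul_mem (hle ?_) hm
    rw [_root_.commutator_def]
    exact commutator_mem_commutator (mem_top g) (mem_top m)
  refine ⟨M, hMn, ?_⟩
  have : Nontrivial (G ⧸ M) := QuotientGroup.nontrivial_iff.2 hM.1
  obtain ⟨r, hr, hrd⟩ := Nat.exists_prime_and_dvd (Finite.one_lt_card (α := G ⧸ M)).ne'
  have := Fact.mk hr
  obtain ⟨y, hy⟩ := exists_prime_orderOf_dvd_card' (G := G ⧸ M) r hrd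
  have hco := isCoatom_map_mk' M hM le_rfl
  have hbot : M.map (QuotientGroup.mk' M) = ⊥ := by
    rw [Subgroup.map_eq_bot_iff, QuotientGroup.ker_mk']
  rw [hbot] at hco
  have h1 : zpowers y = ⊤ := by
    apply hco.2
    rw [bot_lt_iff_ne_bot, Ne, zpowers_eq_bot]
    rintro rfl
    rw [orderOf_one] at hy
    exact hr.one_lt.ne hy
  rw [index_eq_card, ← card_top, ← h1, Nat.card_zpowers, hy]
  exact hr

theorem le_centralizer_of_nilpotent {G : Type*} [Group G] [Finite G] {H A B : Subgroup G}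
    (hH : Group.IsNilpotent H) (hA : A ≤ H) (hB : B ≤ H) {p q : ℕ} [Fact p.Prime] [Fact q.Prime]
    (hpq : p ≠ q) (hAp : IsPGroup p A) (hBq : IsPGroup q B) : B ≤ centralizer (A : Set G) := by
  obtain ⟨P, hP⟩ := (hAp.comap_subtype (K := H)).exists_le_sylow
  obtain ⟨Q, hQ⟩ := (hBq.comap_subtype (K := H)).exists_le_sylow
  have hall : ∀ (p : ℕ) (_ : Fact p.Prime) (P : Sylow p H), (P : Subgroup H).Normal :=
    ((Group.isNilpotent_of_finite_tfae (G := H)).out 0 3).1 hH
  have hPn : (P : Subgroup H).Normal := hall p inferInstance P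
  have hQn : (Q : Subgroup H).Normal := hall q inferInstance Q
  have hd : Disjoint (P : Subgroup H) Q := IsPGroup.disjoint_of_ne p q hpq _ _ P.2 Q.2
  intro b hb
  rw [mem_centralizer_iff]
  intro a ha
  have := commute_of_normal_of_disjoint (P : Subgroup H) Q hPn hQn hd ⟨a, hA ha⟩ ⟨b, hB hb⟩
    (hP (show (⟨a, hA ha⟩ : H) ∈ A.comap H.subtype from ha))
    (hQ (show (⟨b, hB hb⟩ : H) ∈ B.comap H.subtype from hb))
  exact congrArg Subtype.val this

theorem card_sylow_map_of_hall {G : Type*} [Group G] [Finite G] (H : Subgroup G)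
    (hHall : (Nat.card H).Coprime H.index) (p : ℕ) [Fact p.Prime] (hpd : p ∣ Nat.card H)
    (P₀ : Sylow p H) :
    Nat.card ((P₀ : Subgroup H).map H.subtype) = p ^ (Nat.card G).factorization p := by
  have hp : p.Prime := Fact.out
  rw [card_map_of_injective H.subtype_injective, P₀.card_eq_multiplicity, ← H.card_mul_index,
    Nat.factorization_mul Nat.card_pos.ne' index_ne_zero_of_finite, Finsupp.add_apply]
  have : H.index.factorization p = 0 := by
    apply Nat.factorization_eq_zero_of_not_dvd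
    intro hd
    exact hp.one_lt.ne' (Nat.eq_one_of_dvd_coprimes hHall hpd hd)
  rw [this, add_zero]

theorem wielandt_aux {G : Type u} [Group G] [Finite G] (n : ℕ) : ∀ (H K : Subgroup G),
    Nat.card K = n → Group.IsNilpotent H → (Nat.card H).Coprime H.index →
    (∀ p : ℕ, p.Prime → p ∣ Nat.card K → p ∣ Nat.card H) → ∃ x : G, K ≤ MulAut.conj x • H := by
  induction n using Nat.strong_induction_on with
  | _ n ih =>
  intro H K hn hH hHall hK
  by_cases hK1 : K = ⊥
  · exact ⟨1, hK1 ▸ bot_le⟩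
  have hprop : ∀ L : Subgroup G, L < K → ∃ x : G, L ≤ MulAut.conj x • H := by
    intro L hL
    have hlt : Nat.card L < Nat.card K := by
      by_contra hcon
      push Not at hcon
      exact hL.ne (eq_of_le_of_card_ge hL.le hcon)
    exact ih _ (hn ▸ hlt) H L rfl hH hHall
      (fun p hp hpd => hK p hp (hpd.trans (card_dvd_of_le hL.le)))
  have hmaplt : ∀ L' : Subgroup K, L' ≠ ⊤ → L'.map K.subtype < K := by
    intro L' hL'
    refine lt_of_le_of_ne (map_subtype_le _) ?_
    intro e
    apply hL'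
    rw [eq_top_iff]
    intro y _
    have : (y : G) ∈ L'.map K.subtype := by rw [e]; exact y.2
    obtain ⟨z, hz, hzy⟩ := this
    have : z = y := Subtype.ext hzy
    exact this ▸ hz
  have hnil : ∀ L' : Subgroup K, L' ≠ ⊤ → Group.IsNilpotent L' := by
    intro L' hL'
    obtain ⟨x, hx⟩ := hprop _ (hmaplt L' hL')
    have := isNilpotent_of_le hx (isNilpotent_conj x hH)
    exact Group.nilpotent_of_mulEquiv (L'.equivMapOfInjective K.subtype K.subtype_injective).symm
  have hsolv : Group.IsSolvable K := solvable_of_proper_nilpotent hnil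
  have hnt : Nontrivial K := (nontrivial_iff_ne_bot K).2 hK1
  obtain ⟨M', hM'n, hM'p⟩ := exists_normal_prime_index (G := K)
  obtain ⟨p, hpe⟩ : ∃ p, p = M'.index := ⟨_, rfl⟩
  rw [← hpe] at hM'p
  have := Fact.mk hM'p
  have hM't : M' ≠ ⊤ := by
    intro e
    rw [e, index_top] at hpe
    exact hM'p.one_lt.ne' hpe
  obtain ⟨g, hg⟩ := hprop _ (hmaplt M' hM't)
  have hH₁ := isNilpotent_conj g hH
  have hcard₁ : Nat.card (MulAut.conj g • H : Subgroup G) = Nat.card H := card_conj_smul' g H
  have hidx₁ : (MulAut.conj g • H).index = H.index := index_map_equiv H (MulAut.conj g)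
  suffices hs : ∃ y : G, K ≤ MulAut.conj y • (MulAut.conj g • H) by
    obtain ⟨y, hy⟩ := hs
    exact ⟨y * g, by rw [map_mul, mul_smul]; exact hy⟩
  have hpH : p ∣ Nat.card (MulAut.conj g • H : Subgroup G) := by
    rw [hcard₁]
    apply hK p hM'p
    rw [hpe]
    exact M'.index_dvd_card
  have hHall₁ : (Nat.card (MulAut.conj g • H : Subgroup G)).Coprime (MulAut.conj g • H).index := by
    rw [hcard₁, hidx₁]; exact hHall
  generalize MulAut.conj g • H = H₁ at hg hH₁ hpH hHall₁
  obtain ⟨S₀⟩ : Nonempty (Sylow p H₁) := inferInstance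
  have hSc := card_sylow_map_of_hall H₁ hHall₁ p hpH S₀
  have hSH : (S₀ : Subgroup H₁).map H₁.subtype ≤ H₁ := map_subtype_le _
  have hSp : IsPGroup p ((S₀ : Subgroup H₁).map H₁.subtype) := S₀.2.map _
  generalize (S₀ : Subgroup H₁).map H₁.subtype = S at hSc hSH hSp
  set X : Subgroup G := ⨆ (q : Nat.Primes) (_ : (q : ℕ) ≠ p) (Q : Sylow q K),
    (Q : Subgroup K).map K.subtype with hX
  have hQM : ∀ (q : Nat.Primes) (_ : (q : ℕ) ≠ p) (Q : Sylow q K),
      (Q : Subgroup K).map K.subtype ≤ H₁ := by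
    intro q hq Q
    have := Fact.mk q.2
    refine le_trans (map_mono ?_) hg
    apply le_normal_of_coprime_index Q.2
    rw [← hpe]
    exact (Nat.coprime_primes hM'p q.2).2 (Ne.symm hq)
  have hXH : X ≤ H₁ := iSup_le fun q => iSup_le fun hq => iSup_le fun Q => hQM q hq Q
  have hXS : X ≤ centralizer (S : Set G) := by
    refine iSup_le fun q => iSup_le fun hq => iSup_le fun Q => ?_
    have := Fact.mk q.2
    exact le_centralizer_of_nilpotent hH₁ hSH (hQM q hq Q) (Ne.symm hq) hSp (Q.2.map _)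
  have hconj : ∀ k ∈ K, MulAut.conj k • X ≤ X := by
    intro k hk
    change X.map (MulAut.conj k).toMonoidHom ≤ X
    rw [hX, Subgroup.map_iSup]
    refine iSup_le fun q => ?_
    rw [Subgroup.map_iSup]
    refine iSup_le fun hq => ?_
    rw [Subgroup.map_iSup]
    refine iSup_le fun Q => ?_
    refine le_trans ?_ (le_iSup_of_le q (le_iSup_of_le hq (le_iSup _ ((⟨k, hk⟩ : K) • Q))))
    rintro _ ⟨_, ⟨y, hy, rfl⟩, rfl⟩
    refine ⟨⟨k, hk⟩ * y * ⟨k, hk⟩⁻¹, ?_, rfl⟩
    rw [SetLike.mem_coe, Sylow.coe_subgroup_smul]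
    exact smul_mem_pointwise_smul y (MulAut.conj (⟨k, hk⟩ : K)) (Q : Subgroup K) hy
  have hKX : K ≤ normalizer (X : Set G) := fun k hk =>
    mem_normalizer_of_conj_smul_le (hconj k hk) (hconj k⁻¹ (inv_mem hk))
  have hSX : S ≤ normalizer (X : Set G) :=
    (le_centralizer_iff.1 hXS).trans (centralizer_le_normalizer _)
  obtain ⟨P₁⟩ : Nonempty (Sylow p K) := inferInstance
  obtain ⟨m, hmN, hm⟩ := Cfsg.H1.exists_conj_le_sylow_of_le (Sylow.ofCard S hSc)
    (N := normalizer (X : Set G)) (Q := (P₁ : Subgroup K).map K.subtype) hSX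
    ((map_subtype_le _).trans hKX) (P₁.2.map _)
  rw [Sylow.coe_ofCard] at hm
  have hKle : K ≤ X ⊔ (P₁ : Subgroup K).map K.subtype := by
    rw [← subgroupOf_eq_top, ← index_eq_one]
    by_contra h
    obtain ⟨r, hr, hdvd⟩ := Nat.exists_prime_and_dvd h
    have := Fact.mk hr
    by_cases hrp : r = p
    · subst hrp
      have h1 : (P₁ : Subgroup K) ≤ (X ⊔ (P₁ : Subgroup K).map K.subtype).subgroupOf K := by
        intro y hy
        rw [mem_subgroupOf]
        exact (le_sup_right : _ ≤ X ⊔ (P₁ : Subgroup K).map K.subtype) (mem_map_of_mem _ hy)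
      exact P₁.not_dvd_index (hdvd.trans (index_dvd_of_le h1))
    · obtain ⟨Q⟩ : Nonempty (Sylow r K) := inferInstance
      have h1 : (Q : Subgroup K) ≤ (X ⊔ (P₁ : Subgroup K).map K.subtype).subgroupOf K := by
        intro y hy
        rw [mem_subgroupOf]
        apply (le_sup_left : X ≤ X ⊔ (P₁ : Subgroup K).map K.subtype)
        have h2 : (Q : Subgroup K).map K.subtype ≤ X :=
          le_iSup_of_le (⟨r, hr⟩ : Nat.Primes) (le_iSup_of_le hrp
            (le_iSup (fun Q : Sylow r K => (Q : Subgroup K).map K.subtype) Q))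
        exact h2 (mem_map_of_mem _ hy)
      exact Q.not_dvd_index (hdvd.trans (index_dvd_of_le h1))
  refine ⟨m⁻¹, ?_⟩
  rw [map_inv, ← pointwise_smul_subset_iff]
  refine le_trans (pointwise_smul_le_pointwise_smul_iff.2 hKle) ?_
  rw [Subgroup.smul_sup, conj_smul_eq_iff_mem_normalizer.2 hmN]
  exact sup_le hXH (hm.trans hSH)

end Cfsg.Agent.H4
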